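import Cfsg.Agent.LocalThree.AltEightLocal.Extra
import Cfsg.Agent.Presentations.Carmichael
import Mathlib.GroupTheory.SpecificGroups.Alternating.Simple
import Mathlib.GroupTheory.Perm.Fin

/-!
A copy of the alternating group of degree eight inside the group.
-/

set_option autoImplicit false
set_option synthInstance.maxSize 4096
set_option maxRecDepth 100000
set_option maxHeartbeats 1000000

namespace Cfsg.Lib.AltEightLocal

open Equiv Subgroup

universe u

/-- The alternating group. -/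
abbrev A8 := alternatingGroup (Fin 8)

/-- An even permutation. -/
def ev (σ : Perm (Fin 8)) (h : Perm.sign σ = 1 := by decide +kernel) : A8 := ⟨σ, Perm.mem_alternatingGroup.2 h⟩

/-- The generators of Moore. -/
def gens : Fin 6 → A8 :=
  ![ev (swap 0 1 * swap 1 2), ev (swap 0 1 * swap 2 3), ev (swap 0 1 * swap 3 4), ev (swap 0 1 * swap 4 5),
    ev (swap 0 1 * swap 5 6), ev (swap 0 1 * swap 6 7)]

/-- The relations. -/
def rels : Set (FreeGroup (Fin (8 - 2))) :=
  {g : FreeGroup (Fin (8 - 2)) | ∃ i : Fin (8 - 2), i.val = 0 ∧ g = FreeGroup.of i ^ 3} ∪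
  {g | ∃ i : Fin (8 - 2), 1 ≤ i.val ∧ g = FreeGroup.of i ^ 2} ∪
  {g | ∃ i j : Fin (8 - 2), j.val = i.val + 1 ∧ g = (FreeGroup.of i * FreeGroup.of j) ^ 3} ∪
  {g | ∃ i j : Fin (8 - 2), i.val + 1 < j.val ∧ g = (FreeGroup.of i * FreeGroup.of j) ^ 2}

theorem rels_of {K : Type*} [Group K] (x : Fin 6 → K) (h1 : x 0 ^ 3 = 1) (h2 : ∀ i : Fin 6, 1 ≤ i.val → x i ^ 2 = 1)
    (h3 : ∀ i j : Fin 6, j.val = i.val + 1 → (x i * x j) ^ 3 = 1)
    (h4 : ∀ i j : Fin 6, i.val + 1 < j.val → (x i * x j) ^ 2 = 1) :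
    ∀ r ∈ rels, FreeGroup.lift x r = 1 := by
  rintro r (((⟨i, hi, rfl⟩ | ⟨i, hi, rfl⟩) | ⟨i, j, hj, rfl⟩) | ⟨i, j, hj, rfl⟩) <;>
    simp only [map_pow, map_mul, FreeGroup.lift_apply_of]
  · rw [show i = (0 : Fin 6) from Fin.ext hi]; exact h1
  · exact h2 i hi
  · exact h3 i j hj
  · exact h4 i j hj

theorem gens_rels : ∀ r ∈ rels, FreeGroup.lift gens r = 1 :=
  rels_of gens (by decide +kernel) (by decide +kernel) (by decide +kernel) (by decide +kernel)

theorem gens_iso : ∃ e : PresentedGroup rels ≃* A8, ∀ i, e (PresentedGroup.of i) = gens i := by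
  obtain ⟨e0⟩ : Nonempty (PresentedGroup rels ≃* A8) := Cfsg.Lib.Presentations.Carmichael.presentation 8 (by norm_num)
  set φ := PresentedGroup.toGroup gens_rels with hφ
  haveI : IsSimpleGroup A8 := alternatingGroup.isSimpleGroup (by simp)
  haveI : IsSimpleGroup (PresentedGroup rels) := e0.isSimpleGroup
  have hinj : Function.Injective φ := by
    rw [← MonoidHom.ker_eq_bot_iff]
    refine φ.normal_ker.eq_bot_or_eq_top.resolve_right fun h => ?_
    have h0 : φ (PresentedGroup.of 0) = 1 := h.ge (mem_top _)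
    rw [hφ, PresentedGroup.toGroup.of] at h0
    exact absurd h0 (by decide +kernel)
  haveI : Finite (PresentedGroup rels) := Finite.of_equiv _ e0.symm.toEquiv
  exact ⟨MulEquiv.ofBijective φ ((Nat.bijective_iff_injective_and_card φ).2 ⟨hinj, Nat.card_congr e0.toEquiv⟩),
    fun i => PresentedGroup.toGroup.of gens_rels⟩

/-- The placement of the first pair of sets. -/
def placeF : Fin 3 ⊕ Fin 5 ≃ Fin 8 where
  toFun := Sum.elim ![0, 1, 2] ![5, 6, 7, 3, 4]
  invFun := ![Sum.inl 0, Sum.inl 1, Sum.inl 2, Sum.inr 3, Sum.inr 4, Sum.inr 0, Sum.inr 1, Sum.inr 2]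
  left_inv := by decide
  right_inv := by decide

/-- The placement of the second pair of sets. -/
def placeG : Fin 3 ⊕ Fin 5 ≃ Fin 8 where
  toFun := Sum.elim ![5, 6, 7] ![0, 1, 2, 3, 4]
  invFun := ![Sum.inr 0, Sum.inr 1, Sum.inr 2, Sum.inr 3, Sum.inr 4, Sum.inl 0, Sum.inl 1, Sum.inl 2]
  left_inv := by decide
  right_inv := by decide

/-- The embedding attached to a placement. -/
def emb (e : Fin 3 ⊕ Fin 5 ≃ Fin 8) : L0 →* A8 :=
  (((e.permCongrHom : Perm (Fin 3 ⊕ Fin 5) ≃* Perm (Fin 8)).toMonoidHom.comp (Perm.sumCongrHom (Fin 3) (Fin 5))).comp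
      L0.subtype).codRestrict A8 fun x => by
    rw [Perm.mem_alternatingGroup]
    show Perm.sign (e.permCongr (Perm.sumCongr (x : Pr).1 (x : Pr).2)) = 1
    rw [Perm.sign_permCongr, Perm.sign_sumCongr]
    exact x.2

theorem top_of (K : Subgroup L0) (hz : zL ∈ K)
    (h : ∀ i : Fin 4, ∃ k ∈ K, (k : Pr).2 = swap i.castSucc i.succ) : K = ⊤ := by
  set p : L0 →* Perm (Fin 5) := (MonoidHom.snd _ _).comp L0.subtype with hp
  have htop : ∀ σ : Perm (Fin 5), σ ∈ K.map p := by
    intro σ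
    have hmem : σ ∈ Submonoid.closure (Set.range fun i : Fin 4 => swap i.castSucc i.succ) := by
      rw [Perm.mclosure_swap_castSucc_succ]; trivial
    refine (Submonoid.closure_le (S := (K.map p).toSubmonoid)).2 ?_ hmem
    rintro _ ⟨i, rfl⟩
    obtain ⟨k, hk, e⟩ := h i
    exact ⟨k, hk, e⟩
  refine (eq_top_iff' K).2 fun x => ?_
  obtain ⟨k, hk, hkx⟩ := htop (p x)
  have h2 : ∀ a : L0, (a : Pr).2 = 1 → ∃ j ∈ Finset.range 3, a = zL ^ j := by decide +kernel
  obtain ⟨j, -, hj⟩ := h2 (x * k⁻¹) (by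
    show p (x * k⁻¹) = 1
    rw [map_mul, map_inv, hkx, mul_inv_cancel])
  rw [show x = zL ^ j * k by rw [← hj, inv_mul_cancel_right]]
  exact mul_mem (pow_mem hz j) hk

/-- The local data with the missing generator. -/
structure Gen (G : Type u) [Group G] extends Loc G where
  bu : Commute (g bL) (f uL)
  bv : Commute (g bL) (f vL)

variable {G : Type u} [Group G] [Finite G]

theorem word_mem (K : Subgroup L0) {x : L0} (hx : x ∈ K) (hw : wL ∈ K) : ∀ l, word l x ∈ K
  | [] => one_mem K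
  | true :: l => mul_mem hx (word_mem K hx hw l)
  | false :: l => mul_mem hw (word_mem K hx hw l)

theorem exists_gen (L : Loc G) : Nonempty (Gen G) := by
  obtain ⟨x, hx, hxw, hx1, hxz, hxz'⟩ := L.exists_extra
  obtain ⟨x0, rfl⟩ := L.g_norm x (Or.inl (mul_inv_eq_iff_eq_mul.2 hxw.eq))
  have hx0 : x0 * zL = zL * x0 := L.g_inj (by rw [map_mul, map_mul, L.gw]; exact hxw)
  have hcases : x0.1.2 ≠ 1 ∧ x0.1.2 ≠ c5 ∧ x0.1.2 ≠ c5 * c5 := by
    by_contra h
    have h' : x0.1.2 = 1 ∨ x0.1.2 = c5 ∨ x0.1.2 = c5 * c5 := by tauto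
    obtain ⟨i, hi, j, hj, e⟩ := abbrev_A3 x0 hx0 h'
    rw [e, map_mul, map_pow, map_pow, L.gw, L.gz, ← map_pow, ← map_pow, ← map_mul] at hx hx1 hxz hxz'
    obtain ⟨h1, -⟩ := L.mem_four.1 hx
    have key : ∀ i ∈ Finset.range 3, ∀ j ∈ Finset.range 3, wL ^ i * zL ^ j * uL = uL * (wL ^ i * zL ^ j) →
        wL ^ i * zL ^ j = 1 ∨ wL ^ i * zL ^ j = zL ∨ wL ^ i * zL ^ j = zL⁻¹ := by decide +kernel
    rcases key i hi j hj (L.comm_f_iff.1 h1) with e' | e' | e'
    · exact hx1 (by rw [e', map_one])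
    · exact hxz (by rw [e'])
    · exact hxz' (by rw [e', map_inv])
  set K : Subgroup L0 := L.four.comap L.g with hK
  have hwK : wL ∈ K := by
    show L.g wL ∈ L.four
    rw [L.gz]
    exact L.mem_four.2 ⟨L.comm_f (by decide +kernel), L.comm_f (by decide +kernel)⟩
  obtain ⟨l, -, hl⟩ := find_involution x0 hx0 hcases.1 hcases.2.1 hcases.2.2
  have hlK := L.mem_four.1 (word_mem K hx hwK l)
  rcases hl with hl | hl | hl
  · exfalso
    have hconj : L.g (word l x0) * L.z * (L.g (word l x0))⁻¹ = L.z⁻¹ := by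
      show L.g (word l x0) * L.f zL * (L.g (word l x0))⁻¹ = (L.f zL)⁻¹
      rw [← L.gz, ← map_inv, ← map_mul, ← map_mul, hl, map_inv]
    obtain ⟨b, hb⟩ := L.f_norm _ (Or.inr hconj)
    rw [← hb] at hlK hconj
    have hc := cent_four_z b (L.comm_f_iff.1 hlK.1) (L.comm_f_iff.1 hlK.2)
    rw [← map_inv, ← map_mul, ← map_mul, show b * zL * b⁻¹ = zL by rw [hc, mul_inv_cancel_right], ← map_inv] at hconj
    exact absurd (L.f_inj hconj) (by decide +kernel)
  · exact ⟨⟨L, hl ▸ hlK.1, hl ▸ hlK.2⟩⟩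
  · have hfix : ∀ a : L0, ((1 : Perm (Fin 3)), (swap 3 4 : Perm (Fin 5))) * (a : Pr) * (1, swap 3 4)⁻¹ = (a : Pr) →
        L.g (tw (1, swap 3 4) a) = L.g a := fun a h => by rw [tw_fix h]
    let L' : Loc G := { L with
      g := L.g.comp (tw (1, swap 3 4))
      g_inj := L.g_inj.comp (tw_inj _)
      g_norm := fun a ha => by rw [range_comp_tw]; exact L.g_norm a ha
      gz := (hfix wL (by decide +kernel)).trans L.gz
      gw := (hfix zL (by decide +kernel)).trans L.gw
      gr := (hfix rL (by decide +kernel)).trans L.gr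
      gt := (hfix t6 (by decide +kernel)).trans L.gt }
    have e : tw (1, swap 3 4) bL = bL' := Subtype.ext (by decide +kernel)
    refine ⟨⟨L', ?_, ?_⟩⟩ <;> show Commute (L.g (tw (1, swap 3 4) bL)) _ <;> rw [e]
    exacts [hl ▸ hlK.1, hl ▸ hlK.2]

namespace Gen

variable (A : Gen G)

/-- The images of the generators. -/
def imgs : Fin 6 → G := ![A.f zL, A.g bL, A.f s3, A.f s4, A.f s5, A.f s6]

theorem comm_b : Commute (A.g bL) (A.f s4) ∧ Commute (A.g bL) (A.f s5) ∧ Commute (A.g bL) (A.f s6) := by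
  have h6 : Commute (A.g bL) (A.f s6) := by
    rw [← A.gt]
    show A.g bL * A.g t6 = A.g t6 * A.g bL
    rw [← map_mul, show bL * t6 = t6 * bL by decide +kernel, map_mul]
  have hw : Commute (A.g bL) (A.f wL) := by
    rw [← A.gw]
    show A.g bL * A.g zL = A.g zL * A.g bL
    rw [← map_mul, show bL * zL = zL * bL by decide +kernel, map_mul]
  refine ⟨?_, ?_, h6⟩
  · rw [show s4 = uL * s6 by decide +kernel, map_mul]; exact A.bu.mul_right h6
  · rw [show s5 = wL * s6 by decide +kernel, map_mul]; exact hw.mul_right h6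

theorem imgs_rels : ∀ r ∈ rels, FreeGroup.lift A.imgs r = 1 := by
  have F : ∀ a b : L0, ∀ n : ℕ, (a * b) ^ n = 1 → (A.f a * A.f b) ^ n = 1 := fun a b n h => by
    rw [← map_mul, ← map_pow, h, map_one]
  have Gg : ∀ a b : L0, ∀ n : ℕ, (a * b) ^ n = 1 → (A.g a * A.g b) ^ n = 1 := fun a b n h => by
    rw [← map_mul, ← map_pow, h, map_one]
  have hb2 : A.g bL ^ 2 = 1 := by rw [← map_pow, show bL ^ 2 = 1 by decide +kernel, map_one]
  have hc : ∀ b : L0, b ^ 2 = 1 → Commute (A.g bL) (A.f b) → (A.g bL * A.f b) ^ 2 = 1 := fun b hb h => by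
    rw [h.mul_pow, hb2, ← map_pow, hb, map_one, one_mul]
  obtain ⟨h4, h5, h6⟩ := A.comm_b
  refine rels_of A.imgs ?_ ?_ ?_ ?_
  · show A.f zL ^ 3 = 1
    rw [← map_pow, show zL ^ 3 = 1 by decide +kernel, map_one]
  · intro i hi
    fin_cases i
    · simp at hi
    · exact hb2
    all_goals (simp only [imgs]; show A.f _ ^ 2 = 1)
    all_goals rw [← map_pow, ← map_one A.f]; congr 1; decide +kernel
  · intro i j hij
    fin_cases i <;> fin_cases j <;> simp at hij
    · show (A.f zL * A.g bL) ^ 3 = 1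
      rw [← A.gz]
      exact Gg _ _ _ (by decide +kernel)
    · show (A.g bL * A.f s3) ^ 3 = 1
      rw [← A.gr]
      exact Gg _ _ _ (by decide +kernel)
    · exact F s3 s4 3 (by decide +kernel)
    · exact F s4 s5 3 (by decide +kernel)
    · exact F s5 s6 3 (by decide +kernel)
  · intro i j hij
    fin_cases i <;> fin_cases j <;> simp at hij
    · exact F zL s3 2 (by decide +kernel)
    · exact F zL s4 2 (by decide +kernel)
    · exact F zL s5 2 (by decide +kernel)
    · exact F zL s6 2 (by decide +kernel)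
    · exact hc s4 (by decide +kernel) h4
    · exact hc s5 (by decide +kernel) h5
    · exact hc s6 (by decide +kernel) h6
    · exact F s3 s5 2 (by decide +kernel)
    · exact F s3 s6 2 (by decide +kernel)
    · exact F s4 s6 2 (by decide +kernel)

/-- The map from the alternating group. -/
theorem exists_hom : ∃ φ : A8 →* G, Function.Injective φ ∧ ∀ i, φ (gens i) = A.imgs i := by
  obtain ⟨e, he⟩ := gens_iso
  refine ⟨(PresentedGroup.toGroup A.imgs_rels).comp e.symm.toMonoidHom, ?_, fun i => ?_⟩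
  · rw [← MonoidHom.ker_eq_bot_iff]
    haveI : IsSimpleGroup A8 := alternatingGroup.isSimpleGroup (by simp)
    refine (MonoidHom.normal_ker _).eq_bot_or_eq_top.resolve_right fun h => ?_
    have h0 := h.ge (mem_top (gens 0))
    rw [MonoidHom.mem_ker, MonoidHom.comp_apply, MulEquiv.coe_toMonoidHom, ← he 0, e.symm_apply_apply,
      PresentedGroup.toGroup.of] at h0
    exact absurd (A.f_inj (h0.trans A.f.map_one.symm)) (by decide +kernel)
  · rw [MonoidHom.comp_apply, MulEquiv.coe_toMonoidHom, ← he i, e.symm_apply_apply, PresentedGroup.toGroup.of]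

/-- The copy. -/
noncomputable def Φ : A8 →* G := A.exists_hom.choose

theorem Φ_inj : Function.Injective A.Φ := A.exists_hom.choose_spec.1

theorem Φ_gens (i : Fin 6) : A.Φ (gens i) = A.imgs i := A.exists_hom.choose_spec.2 i

theorem Φ_f (x : L0) : A.Φ (emb placeF x) = A.f x := by
  have h : MonoidHom.eqLocus (A.Φ.comp (emb placeF)) A.f = ⊤ := by
    have hi : ∀ (a : L0) (i : Fin 6), emb placeF a = gens i → A.imgs i = A.f a →
        a ∈ MonoidHom.eqLocus (A.Φ.comp (emb placeF)) A.f := fun a i h1 h2 => by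
      show A.Φ (emb placeF a) = A.f a
      rw [h1, A.Φ_gens, h2]
    have k3 := hi s3 2 (by decide +kernel) rfl
    have k4 := hi s4 3 (by decide +kernel) rfl
    have k5 := hi s5 4 (by decide +kernel) rfl
    have k6 := hi s6 5 (by decide +kernel) rfl
    refine top_of _ (hi zL 0 (by decide +kernel) rfl) fun i => ?_
    fin_cases i
    · exact ⟨s5, k5, by decide +kernel⟩
    · exact ⟨s6, k6, by decide +kernel⟩
    · exact ⟨s6 * (s5 * (s4 * s3 * s4) * s5) * s6,
        mul_mem (mul_mem k6 (mul_mem (mul_mem k5 (mul_mem (mul_mem k4 k3) k4)) k5)) k6, by decide +kernel⟩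
    · exact ⟨s3, k3, by decide +kernel⟩
  exact h.ge (mem_top x)

theorem Φ_g (x : L0) : A.Φ (emb placeG x) = A.g x := by
  have h : MonoidHom.eqLocus (A.Φ.comp (emb placeG)) A.g = ⊤ := by
    have hf : ∀ (a b : L0), emb placeG a = emb placeF b → A.g a = A.f b →
        a ∈ MonoidHom.eqLocus (A.Φ.comp (emb placeG)) A.g := fun a b h1 h2 => by
      show A.Φ (emb placeG a) = A.g a
      rw [h1, A.Φ_f, h2]
    have kz := hf zL wL (by decide +kernel) A.gw
    have kw := hf wL zL (by decide +kernel) A.gz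
    have kr := hf rL s3 (by decide +kernel) A.gr
    have kt := hf t6 s6 (by decide +kernel) A.gt
    have kb : bL ∈ MonoidHom.eqLocus (A.Φ.comp (emb placeG)) A.g := by
      show A.Φ (emb placeG bL) = A.g bL
      rw [show emb placeG bL = gens 1 by decide +kernel, A.Φ_gens]
      rfl
    refine top_of _ kz fun i => ?_
    fin_cases i
    · exact ⟨t6, kt, by decide +kernel⟩
    · exact ⟨t6 * wL, mul_mem kt kw, by decide +kernel⟩
    · exact ⟨t6 * bL, mul_mem kt kb, by decide +kernel⟩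
    · exact ⟨t6 * rL, mul_mem kt kr, by decide +kernel⟩
  exact h.ge (mem_top x)

/-- The involution exchanging the two triples. -/
def j0 : A8 := ev (swap 0 5 * swap 1 6 * swap 2 7 * swap 3 4)

/-- The elements commuting with the product of the two three-elements. -/
def eighteen : Finset A8 :=
  torus.image (emb placeF) ∪ torus.image fun t => emb placeF t * j0

theorem eighteen_card : eighteen.card = 18 := by decide +kernel

theorem torus_comm : ∀ t ∈ torus, t * (zL * wL) = zL * wL * t := by decide +kernel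

theorem j0_comm : Commute j0 (emb placeF (zL * wL)) := by
  show j0 * emb placeF (zL * wL) = emb placeF (zL * wL) * j0
  decide +kernel

theorem eighteen_spec : eighteen.card = 18 ∧
    ∀ σ ∈ eighteen, σ * emb placeF (zL * wL) = emb placeF (zL * wL) * σ := by
  refine ⟨eighteen_card, fun σ hσ => ?_⟩
  have hc : ∀ t ∈ torus, Commute (emb placeF t) (emb placeF (zL * wL)) := fun t ht => by
    show emb placeF t * emb placeF (zL * wL) = emb placeF (zL * wL) * emb placeF t
    rw [← map_mul, torus_comm t ht, map_mul]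
  rw [eighteen, Finset.mem_union] at hσ
  rcases hσ with h | h <;> obtain ⟨t, ht, rfl⟩ := Finset.mem_image.1 h
  · exact (hc t ht).eq
  · exact ((hc t ht).mul_left j0_comm).eq

/-- The centralisers of the elements of the torus lie in the copy. -/
theorem torus_le (t : L0) (ht : t ∈ torusGrp) (ht1 : t ≠ 1) : centralizer ({A.f t} : Set G) ≤ A.Φ.range := by
  have hf : A.f.range ≤ A.Φ.range := by
    rintro _ ⟨x, rfl⟩
    exact ⟨emb placeF x, A.Φ_f x⟩
  have hg : A.g.range ≤ A.Φ.range := by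
    rintro _ ⟨x, rfl⟩
    exact ⟨emb placeG x, A.Φ_g x⟩
  have hz : centralizer ({A.f zL} : Set G) ≤ A.Φ.range := fun c hc =>
    hf (A.f_norm c (Or.inl (mul_inv_eq_iff_eq_mul.2 (mem_centralizer_singleton_iff.1 hc))))
  have hw : centralizer ({A.f wL} : Set G) ≤ A.Φ.range := fun c hc =>
    hg (A.g_norm c (Or.inl (mul_inv_eq_iff_eq_mul.2 (mem_centralizer_singleton_iff.1 hc))))
  have hinv : ∀ a : G, centralizer ({a⁻¹} : Set G) = centralizer ({a} : Set G) := fun a => by
    ext c
    rw [mem_centralizer_singleton_iff, mem_centralizer_singleton_iff]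
    exact Commute.inv_right_iff (a := c) (b := a)
  have hzw : centralizer ({A.f (zL * wL)} : Set G) ≤ A.Φ.range := by
    set C := centralizer ({A.f (zL * wL)} : Set G) with hC
    let ψ : {σ // σ ∈ eighteen} → ↥(C ⊓ A.Φ.range) := fun σ => ⟨A.Φ σ.1, mem_inf.2
      ⟨mem_centralizer_singleton_iff.2 (by rw [← A.Φ_f, ← map_mul, ← map_mul, eighteen_spec.2 _ σ.2]),
        ⟨_, rfl⟩⟩⟩
    have h1 := Nat.card_le_card_of_injective ψ fun a b h => Subtype.ext (A.Φ_inj (congrArg Subtype.val h))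
    rw [Nat.card_eq_fintype_card, Fintype.card_coe, eighteen_spec.1] at h1
    have h2 : C ⊓ A.Φ.range = C := eq_of_le_of_card_ge inf_le_left (by rw [hC, A.card_zw]; exact h1)
    exact h2 ▸ inf_le_right
  by_cases h1 : t = zL
  · rw [h1]; exact hz
  by_cases h2 : t = zL⁻¹
  · rw [h2, map_inv, hinv]; exact hz
  by_cases h3 : t = wL
  · rw [h3]; exact hw
  by_cases h4 : t = wL⁻¹
  · rw [h4, map_inv, hinv]; exact hw
  have hconj : centralizer ({A.f (rL * (zL * wL) * rL⁻¹)} : Set G) ≤ A.Φ.range := by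
    intro c hc
    rw [mem_centralizer_singleton_iff, map_mul, map_mul A.f rL, map_inv] at hc
    have hr : A.f rL ∈ A.Φ.range := hf ⟨rL, rfl⟩
    have h := hzw (mem_centralizer_singleton_iff.2
      (show (A.f rL)⁻¹ * c * A.f rL * A.f (zL * wL) = A.f (zL * wL) * ((A.f rL)⁻¹ * c * A.f rL) by
        calc (A.f rL)⁻¹ * c * A.f rL * A.f (zL * wL)
            = (A.f rL)⁻¹ * (c * (A.f rL * A.f (zL * wL) * (A.f rL)⁻¹)) * A.f rL := by group
          _ = _ := by rw [hc]; group))
    have := mul_mem (mul_mem hr h) (inv_mem hr)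
    rwa [show A.f rL * ((A.f rL)⁻¹ * c * A.f rL) * (A.f rL)⁻¹ = c by group] at this
  rcases off_lines t ht ht1 h1 h2 h3 h4 with e | e | e | e <;> rw [e]
  · exact hzw
  · rw [map_inv, hinv]; exact hzw
  · exact hconj
  · rw [map_inv, hinv]; exact hconj

end Gen

end Cfsg.Lib.AltEightLocal
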