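import Cfsg.Agent.LocalThree.AltEightLocal.Perms
import Cfsg.Agent.InvolCalc.ZStarApps
import Cfsg.Agent.InvolCalc.Dihedral
import Cfsg.Agent.InvolCalc.StronglyEmbedded
import Mathlib.GroupTheory.FixedPointFree

/-!
The centralisers of the two classes of involutions lie in the copy of the alternating group.
-/

set_option autoImplicit false
set_option synthInstance.maxSize 4096
set_option maxRecDepth 100000
set_option maxHeartbeats 1000000

namespace Cfsg.Lib.AltEightLocal.Gen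

open Equiv Subgroup

universe u

variable {G : Type u} [Group G] [Finite G] (A : Gen G)

theorem map_comm {σ τ : A8} (h : σ * τ = τ * σ) : Commute (A.Φ σ) (A.Φ τ) := by
  show A.Φ σ * A.Φ τ = A.Φ τ * A.Φ σ
  rw [← map_mul, h, map_mul]

theorem comm_iff {σ τ : A8} : Commute (A.Φ σ) (A.Φ τ) ↔ σ * τ = τ * σ :=
  ⟨fun h => A.Φ_inj (by rw [map_mul, map_mul]; exact h), A.map_comm⟩

theorem Φ_u : A.Φ u8 = A.f uL := by rw [← images8.1, A.Φ_f]

theorem Φ_v : A.Φ v8 = A.f vL := by rw [← images8.2.1, A.Φ_f]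

theorem Φ_z : A.Φ z8 = A.f zL := by rw [← images8.2.2, A.Φ_f]

/-- The centraliser of the four-group lies in the copy. -/
theorem four_mem {x : G} (h1 : Commute x (A.Φ u8)) (h2 : Commute x (A.Φ v8)) : x ∈ A.Φ.range :=
  A.toLoc.four_le A.Φ.range A.torus_le (A.toLoc.mem_four.2 ⟨by rw [A.Φ_u] at h1; exact h1, by rw [A.Φ_v] at h2; exact h2⟩)

theorem range_f_le : A.f.range ≤ A.Φ.range := by
  rintro _ ⟨x, rfl⟩
  exact ⟨emb placeF x, A.Φ_f x⟩

/-- The type of an involution of the copy is an invariant of the group. -/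
theorem type_of_conj {σ : A8} {g : G} (h : g * A.Φ u8 * g⁻¹ = A.Φ σ) : Tu (σ : Perm (Fin 8)) := by
  have huu : u8 * u8 = 1 ∧ u8 ≠ 1 := by decide +kernel
  have hσ2 : σ * σ = 1 := A.Φ_inj (by rw [map_mul, map_one, ← h, conj_mul, ← map_mul, huu.1, map_one]; group)
  have hσ1 : σ ≠ 1 := fun e => huu.2 (A.Φ_inj (by rw [e, map_one, conj_eq_one_iff] at h; rw [h, map_one]))
  rcases classify σ hσ2 hσ1 with ⟨hT, -⟩ | ⟨-, hc⟩
  · exact hT
  exfalso
  obtain ⟨k, hk⟩ := isConj_iff.1 hc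
  rcases classify j0 (by decide +kernel) (by decide +kernel) with ⟨hT, -⟩ | ⟨-, hc'⟩
  · exact facts8.2.2.2.2.2.2.2.2.2.1 hT
  obtain ⟨k', hk'⟩ := isConj_iff.1 hc'.symm
  refine A.toLoc.not_comm_zw (A.Φ (k' * k) * g) ?_
  rw [show A.Φ (k' * k) * g * A.toLoc.u * (A.Φ (k' * k) * g)⁻¹
      = A.Φ (k' * k) * (g * A.toLoc.u * g⁻¹) * (A.Φ (k' * k))⁻¹ by group,
    show A.toLoc.u = A.Φ u8 from A.Φ_u.symm, h, ← map_inv, ← map_mul, ← map_mul,
    show k' * k * σ * (k' * k)⁻¹ = k' * (k * σ * k⁻¹) * k'⁻¹ by group, hk, hk', ← A.Φ_f]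
  exact A.map_comm j0_comm.eq

/-- Involutions with four fixed points are conjugate to the chosen one. -/
theorem conj_of_type {σ : A8} (h : Tu (σ : Perm (Fin 8))) : ∃ ρ : A8, ρ * u8 * ρ⁻¹ = σ := by
  have h2 : σ * σ = 1 := Subtype.ext h.1
  have h1 : σ ≠ 1 := fun e => by
    have h' := h.2
    rw [e] at h'
    simp at h'
  rcases classify σ h2 h1 with ⟨-, hc⟩ | ⟨hT, -⟩
  · exact isConj_iff.1 hc.symm
  · exact absurd h hT

theorem type_transfer {σ τ : A8} {g : G} (hσ : Tu (σ : Perm (Fin 8))) (h : g * A.Φ σ * g⁻¹ = A.Φ τ) :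
    Tu (τ : Perm (Fin 8)) := by
  obtain ⟨ρ, rfl⟩ := conj_of_type hσ
  refine A.type_of_conj (g := g * A.Φ ρ) ?_
  rw [← h, map_mul, map_mul, map_inv]
  group

/-- The normaliser of the four-group lies in the copy. -/
theorem normal_four_mem {g : G} (hu : g * A.Φ u8 * g⁻¹ = A.Φ u8)
    (hv : g * A.Φ v8 * g⁻¹ = A.Φ v8 ∨ g * A.Φ v8 * g⁻¹ = A.Φ (u8 * v8)) : g ∈ A.Φ.range := by
  obtain ⟨-, -, -, -, -, -, -, -, -, hzu, hzv, -⟩ := relations8
  set x := g * A.Φ z8 * g⁻¹ with hx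
  have hc : ∀ τ : A8, Commute z8 τ → ∀ w : G, g * A.Φ τ * g⁻¹ = w → Commute x w := by
    intro τ hτ w hw
    rw [← hw, hx]
    show g * A.Φ z8 * g⁻¹ * (g * A.Φ τ * g⁻¹) = g * A.Φ τ * g⁻¹ * (g * A.Φ z8 * g⁻¹)
    rw [conj_mul, conj_mul, (A.map_comm hτ.eq).eq]
  have h1 : Commute x (A.Φ u8) := hc u8 hzu _ hu
  have h2 : Commute x (A.Φ v8) := by
    rcases hv with e | e
    · exact hc v8 hzv _ e
    · have h3 := h1.mul_right (hc v8 hzv _ e)
      rwa [← map_mul, show u8 * (u8 * v8) = v8 by decide +kernel] at h3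
  obtain ⟨σ, hσ⟩ := A.four_mem h1 h2
  rw [← hσ] at h1 h2
  obtain ⟨p, hp⟩ := split_u8 (A.comm_iff.1 h1)
  have hz3 : z8 * z8 * z8 = 1 ∧ z8 ≠ 1 := by decide +kernel
  have hσ3 : σ * σ * σ = 1 := A.Φ_inj (by
    rw [map_mul, map_mul, map_one, hσ, hx, conj_mul, conj_mul, ← map_mul, ← map_mul, hz3.1, map_one]; group)
  have hσ1 : σ ≠ 1 := fun e => hz3.2 (A.Φ_inj (by
    rw [e, map_one, eq_comm, hx, conj_eq_one_iff] at hσ; rw [hσ, map_one]))
  obtain ⟨q, hq⟩ := three_in_four p (hp ▸ Perm.mem_alternatingGroup.1 σ.2)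
    (hp ▸ congrArg Subtype.val (A.comm_iff.1 h1)) (hp ▸ congrArg Subtype.val (A.comm_iff.1 h2))
    (hp ▸ congrArg Subtype.val hσ3) (fun e => hσ1 (Subtype.ext (hp.trans e)))
  set ρ : A8 := ev (bl (q, q)) (sign_bl_diag q) with hρ
  have hρσ : ρ * σ * ρ⁻¹ = z8 ∨ ρ * σ * ρ⁻¹ = z8⁻¹ := by
    refine hq.imp (fun e => Subtype.ext ?_) (fun e => Subtype.ext ?_) <;>
      show bl (q, q) * (σ : Perm (Fin 8)) * (bl (q, q))⁻¹ = _ <;> rw [hp, e] <;> rfl
  have hmem : A.Φ ρ * g ∈ A.f.range := A.f_norm _ (by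
    rw [← A.Φ_z, show A.Φ ρ * g * A.Φ z8 * (A.Φ ρ * g)⁻¹ = A.Φ ρ * x * (A.Φ ρ)⁻¹ by rw [hx]; group, ← hσ,
      ← map_inv, ← map_mul, ← map_mul, ← map_inv]
    exact hρσ.imp (congrArg _) (congrArg _))
  exact (mul_mem_cancel_left (⟨ρ, rfl⟩ : A.Φ ρ ∈ A.Φ.range)).1 (A.range_f_le hmem)

/-- A conjugate of `v` under the centraliser of `u` normalising the four-group is `v` or `uv`. -/
theorem four_unique {y : G} (hy : y * A.Φ u8 * y⁻¹ = A.Φ u8) {τ : A8} (hτ : y * A.Φ v8 * y⁻¹ = A.Φ τ) :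
    τ = v8 ∨ τ = u8 * v8 := by
  obtain ⟨-, hTv, hTuv, -⟩ := facts8
  have huv : Commute u8 v8 := by unfold Commute SemiconjBy; decide +kernel
  have hτu : τ * u8 = u8 * τ := A.Φ_inj (by
    rw [map_mul, map_mul, ← hτ, ← hy, conj_mul, conj_mul, (A.map_comm huv.eq).eq])
  have h1 := A.type_transfer hTv hτ
  have h2 : Tu ((τ * u8 : A8) : Perm (Fin 8)) := A.type_transfer (σ := u8 * v8) hTuv (g := y) (by
    rw [hτu, map_mul, map_mul, ← hτ, ← hy, conj_mul, hy])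
  obtain ⟨p, hp⟩ := split_u8 hτu
  rcases fours_through p (hp ▸ Perm.mem_alternatingGroup.1 τ.2) (hp ▸ congrArg Subtype.val hτu) (hp ▸ h1)
      (by rw [← hp]; exact h2) with e | e | ⟨q, hqs, hqτ, hqT, hqτT, hqu, hqu1, hqcu⟩
  · exact Or.inl (Subtype.ext (hp.trans e))
  · exact Or.inr (Subtype.ext (hp.trans e))
  exfalso
  set π : A8 := ev (bl (q, 1)) hqs with hπ
  have hπu : π * u8 = u8 * π := Subtype.ext hqcu
  have hπτ : π * τ = τ * π := Subtype.ext (by show bl (q, 1) * _ = _ * bl (q, 1); rw [hp]; exact hqτ)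
  set x := y⁻¹ * A.Φ π * y with hx
  have hcx : ∀ ω ω' : A8, y * A.Φ ω * y⁻¹ = A.Φ ω' → π * ω' = ω' * π → Commute x (A.Φ ω) := by
    intro ω ω' hω hc
    show x * A.Φ ω = A.Φ ω * x
    calc x * A.Φ ω = y⁻¹ * (A.Φ π * (y * A.Φ ω * y⁻¹)) * y := by rw [hx]; group
      _ = y⁻¹ * (y * A.Φ ω * y⁻¹ * A.Φ π) * y := by rw [hω, (A.map_comm hc).eq]
      _ = _ := by rw [hx]; group
  obtain ⟨ρ, hρ⟩ := A.four_mem (hcx u8 u8 hy hπu) (hcx v8 τ hτ hπτ)
  have hρu : ρ * u8 = u8 * ρ := A.comm_iff.1 (hρ ▸ hcx u8 u8 hy hπu)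
  have hρv : ρ * v8 = v8 * ρ := A.comm_iff.1 (hρ ▸ hcx v8 τ hτ hπτ)
  have hconj : ∀ ω ω' : A8, y * A.Φ ω * y⁻¹ = A.Φ ω' → y * A.Φ (ρ * ω) * y⁻¹ = A.Φ (π * ω') := by
    intro ω ω' hω
    rw [map_mul, map_mul, hρ, ← hω, hx]
    group
  have hconj' : ∀ ω ω' : A8, y * A.Φ ω * y⁻¹ = A.Φ ω' → y⁻¹ * A.Φ (π * ω') * y⁻¹⁻¹ = A.Φ (ρ * ω) := by
    intro ω ω' hω
    rw [← hconj ω ω' hω]
    group
  have h3 : Tu (ρ : Perm (Fin 8)) := A.type_transfer (σ := π) hqT (g := y⁻¹) (by rw [hρ, hx]; group)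
  have h4 : Tu ((ρ * v8 : A8) : Perm (Fin 8)) := A.type_transfer (σ := π * τ)
    (show Tu (bl (q, 1) * (τ : Perm (Fin 8))) by rw [hp]; exact hqτT) (hconj' v8 τ hτ)
  obtain ⟨p', hp'⟩ := split_u8 hρu
  rcases four_triangle p' (hp' ▸ Perm.mem_alternatingGroup.1 ρ.2) (hp' ▸ congrArg Subtype.val hρu)
    (hp' ▸ congrArg Subtype.val hρv) (hp' ▸ h3) (hp' ▸ h4) with e | e
  · refine hqu1 (congrArg Subtype.val (A.Φ_inj (a₁ := π * u8) (a₂ := 1) ?_))
    rw [← hconj u8 u8 hy, show ρ * u8 = 1 from Subtype.ext (by rw [← hp'] at e; exact e), map_one]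
    group
  · exact hqu (A.type_transfer (σ := ρ * u8) (by rw [← hp'] at e; exact e) (hconj u8 u8 hy))

/-- The centraliser of the second four-group lies in the copy. -/
theorem second_four_mem {x : G} (h1 : Commute x (A.Φ b8)) (h2 : Commute x (A.Φ c8)) : x ∈ A.Φ.range := by
  obtain ⟨-, hb, hc, -⟩ := relations8
  have key : ∀ ω ω' : A8, h8 * ω * h8⁻¹ = ω' → Commute x (A.Φ ω') →
      Commute ((A.Φ h8)⁻¹ * x * A.Φ h8) (A.Φ ω) := by
    intro ω ω' e hcomm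
    subst e
    show (A.Φ h8)⁻¹ * x * A.Φ h8 * A.Φ ω = A.Φ ω * ((A.Φ h8)⁻¹ * x * A.Φ h8)
    calc (A.Φ h8)⁻¹ * x * A.Φ h8 * A.Φ ω = (A.Φ h8)⁻¹ * (x * A.Φ (h8 * ω * h8⁻¹)) * A.Φ h8 := by
          rw [map_mul, map_mul, map_inv]; group
      _ = _ := by rw [hcomm.eq, map_mul, map_mul, map_inv]; group
  have h := A.four_mem (key u8 b8 hb h1) (key v8 c8 hc h2)
  have hr : A.Φ h8 ∈ A.Φ.range := ⟨h8, rfl⟩
  have := mul_mem (mul_mem hr h) (inv_mem hr)
  rwa [show A.Φ h8 * ((A.Φ h8)⁻¹ * x * A.Φ h8) * (A.Φ h8)⁻¹ = x by group] at this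

/-- The centraliser of `u` lies in the copy. -/
theorem cent_u_le : centralizer ({A.Φ u8} : Set G) ≤ A.Φ.range := by
  classical
  set Y := centralizer ({A.Φ u8} : Set G) with hY
  obtain ⟨hTu, hTv, hTuv, hTb, hTc, -, -, hbu, hcu, -, -⟩ := facts8
  obtain ⟨hh8, -, -, hzb, hzd, hzc, hbc, hbu', hcu', hzu, hzv, -, -, hbv, hcv⟩ := relations8
  have memY : ∀ {σ : A8}, σ * u8 = u8 * σ → A.Φ σ ∈ Y := fun h => mem_centralizer_singleton_iff.2 (A.map_comm h).eq
  let uY : Y := ⟨A.Φ u8, memY rfl⟩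
  have hucen : ∀ a : Y, Commute a uY := fun a => Subtype.ext (mem_centralizer_singleton_iff.1 a.2)
  haveI hZn : (zpowers uY).Normal := ⟨fun a ha g => by
    obtain ⟨k, rfl⟩ := mem_zpowers_iff.1 ha
    rw [((hucen g).zpow_right k).eq, mul_inv_cancel_right]
    exact ha⟩
  have hu2 : uY ^ 2 = 1 := Subtype.ext (by
    show A.Φ u8 ^ 2 = 1
    rw [← map_pow, show u8 ^ 2 = 1 by decide +kernel, map_one])
  have hZmem : ∀ a : Y, a ∈ zpowers uY → (a : G) = 1 ∨ (a : G) = A.Φ u8 := by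
    intro a ha
    obtain ⟨k, rfl⟩ := mem_zpowers_iff.1 ha
    rcases Int.even_or_odd k with ⟨j, rfl⟩ | ⟨j, rfl⟩
    · exact Or.inl (congrArg Subtype.val (show uY ^ (j + j) = 1 by
        rw [← two_mul, zpow_mul, zpow_two, ← pow_two, hu2, one_zpow]))
    · exact Or.inr (congrArg Subtype.val (show uY ^ (2 * j + 1) = uY by
        rw [zpow_add_one, zpow_mul, zpow_two, ← pow_two, hu2, one_zpow, one_mul]))
  let π : Y →* Y ⧸ zpowers uY := QuotientGroup.mk' _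
  have hπ : ∀ a b : Y, π a = π b → (b : G) = a ∨ (b : G) = (a : G) * A.Φ u8 := by
    intro a b h
    rcases hZmem _ (QuotientGroup.eq.1 h) with e | e
    · exact Or.inl (inv_mul_eq_one.1 e).symm
    · exact Or.inr (inv_mul_eq_iff_eq_mul.1 e)
  let el8 : ∀ σ : A8, σ * u8 = u8 * σ → Y := fun σ h => ⟨A.Φ σ, memY h⟩
  let vY : Y := el8 v8 (by decide +kernel)
  let bY : Y := el8 b8 hbu'.eq
  let cY : Y := el8 c8 hcu'.eq
  let zY : Y := el8 z8 hzu.eq
  -- elements of the copy conjugating `v` to itself modulo `u`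
  have hnormv : ∀ y : Y, π (y * vY * y⁻¹) = π vY → (y : G) ∈ A.Φ.range := by
    intro y h
    refine A.normal_four_mem ?_ ?_
    · rw [mem_centralizer_singleton_iff.1 y.2, mul_inv_cancel_right]
    · rcases hπ _ _ h.symm with e | e
      · exact Or.inl e
      · refine Or.inr (e.trans ?_)
        show A.Φ v8 * A.Φ u8 = A.Φ (u8 * v8)
        rw [← map_mul, show v8 * u8 = u8 * v8 by decide +kernel]
  have hexact : ∀ (σ : A8) (hσ : σ * u8 = u8 * σ), Tu (σ : Perm (Fin 8)) → ¬ Tu ((σ * u8 : A8) : Perm (Fin 8)) →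
      ∀ y : Y, π (y * el8 σ hσ * y⁻¹) = π (el8 σ hσ) → Commute (y : G) (A.Φ σ) := by
    intro σ hσ hT hnT y h
    rcases hπ _ _ h.symm with e | e
    · exact mul_inv_eq_iff_eq_mul.1 e
    · refine absurd (A.type_transfer hT (g := (y : G)) (τ := σ * u8) ?_) hnT
      rw [map_mul]
      exact e
  -- the image of `v` is isolated
  have hv1 : π vY ≠ 1 := by
    intro h
    rcases hπ _ _ (h.trans (map_one π).symm) with e | e
    · exact absurd (A.Φ_inj ((map_one A.Φ).trans e)) (by decide +kernel)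
    · rw [show ((vY : Y) : G) = A.Φ v8 from rfl, ← map_mul] at e
      exact absurd (A.Φ_inj ((map_one A.Φ).trans e)) (by decide +kernel)
  have hiso : Cfsg.IsIsolatedInvolution (π vY) := by
    refine ⟨orderOf_eq_prime (by
      rw [← map_pow, show vY ^ 2 = 1 from Subtype.ext (by
        show A.Φ v8 ^ 2 = 1
        rw [← map_pow, show v8 ^ 2 = 1 by decide +kernel, map_one]), map_one]) hv1, fun g hg => ?_⟩
    obtain ⟨y, rfl⟩ := QuotientGroup.mk_surjective g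
    set w := y * vY * y⁻¹ with hw
    have hcw : π (w * vY * w⁻¹) = π vY := by
      rw [map_mul, map_mul, map_inv, mul_inv_eq_iff_eq_mul]
      exact hg.symm.eq
    obtain ⟨τ, hτ⟩ := hnormv w hcw
    have hy : (y : G) * A.Φ u8 * (y : G)⁻¹ = A.Φ u8 := by
      rw [mem_centralizer_singleton_iff.1 y.2, mul_inv_cancel_right]
    show π w = π vY
    rcases A.four_unique hy (τ := τ) (by rw [hτ]; rfl) with e | e <;> rw [e] at hτ
    · exact congrArg π (Subtype.ext hτ.symm)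
    · refine (QuotientGroup.eq.2 ?_)
      rw [show w⁻¹ * vY = uY from Subtype.ext (by
        show (w : G)⁻¹ * A.Φ v8 = A.Φ u8
        rw [← hτ, ← map_inv, ← map_mul, show (u8 * v8)⁻¹ * v8 = u8 by decide +kernel])]
      exact mem_zpowers _
  set O := Cfsg.pPrimeCore 2 (Y ⧸ zpowers uY) with hO
  have hOodd : Odd (Nat.card O) := Cfsg.Lib.ZStarApps.odd_card_pPrimeCore
  have hOn : O.Normal := inferInstance
  have hodd2 : ∀ o ∈ O, o * o = 1 → o = 1 := by
    intro o ho h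
    have h1 : orderOf o ∣ 2 := orderOf_dvd_of_pow_eq_one (by rw [pow_two, h])
    have h2 : Odd (orderOf o) := hOodd.of_dvd_nat (orderOf_mk o ho ▸ orderOf_dvd_natCard (⟨o, ho⟩ : O))
    rcases (Nat.dvd_prime Nat.prime_two).1 h1 with e | e
    · exact orderOf_eq_one_iff.1 e
    · rw [e] at h2; exact absurd h2 (by decide)
  -- nothing of the copy survives in the core
  have hsmall : ∀ y : Y, (y : G) ∈ A.Φ.range → π y ∈ O → π y = 1 := by
    intro y hyH hyO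
    obtain ⟨σ, hσ⟩ := hyH
    have hσu : σ * u8 = u8 * σ := A.comm_iff.1 (hσ ▸ (mem_centralizer_singleton_iff.1 y.2 : Commute (y : G) (A.Φ u8)))
    obtain ⟨p, hp⟩ := split_u8 hσu
    have h12 : σ ^ 12 = 1 := Subtype.ext (by
      rw [SubmonoidClass.coe_pow, hp]
      exact cent_u8_exponent p (hp ▸ Perm.mem_alternatingGroup.1 σ.2) (hp ▸ congrArg Subtype.val hσu))
    have hy12 : (π y) ^ 12 = 1 := by
      rw [← map_pow, show y ^ 12 = 1 from Subtype.ext (by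
        show (y : G) ^ 12 = 1
        rw [← hσ, ← map_pow, h12, map_one]), map_one]
    have h3 : orderOf (π y) ∣ 3 := by
      have h2 : Odd (orderOf (π y)) := hOodd.of_dvd_nat
        (orderOf_mk _ hyO ▸ orderOf_dvd_natCard (⟨π y, hyO⟩ : O))
      refine Nat.Coprime.dvd_of_dvd_mul_right ?_ (show orderOf (π y) ∣ 3 * 4 from orderOf_dvd_of_pow_eq_one hy12)
      exact ((Nat.coprime_two_right.2 h2).pow_right 2)
    set ρ := σ ^ 4 with hρ
    have hρu : ρ * u8 = u8 * ρ := ((show Commute σ u8 from hσu).pow_left 4).eq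
    have hyρ : π y = π (el8 ρ hρu) := by
      rw [show el8 ρ hρu = y ^ 4 from Subtype.ext (by
        show A.Φ ρ = (y : G) ^ 4
        rw [← hσ, hρ, map_pow]), map_pow, pow_succ, orderOf_dvd_iff_pow_eq_one.1 h3, one_mul]
    by_cases hρ1 : ρ = 1
    · rw [hyρ, show el8 ρ hρu = 1 from Subtype.ext (by show A.Φ ρ = 1; rw [hρ1, map_one]), map_one]
    exfalso
    obtain ⟨p', hp'⟩ := split_u8 hρu
    obtain ⟨m1, m2, m3⟩ := three_moves p' (hp' ▸ Perm.mem_alternatingGroup.1 ρ.2) (hp' ▸ congrArg Subtype.val hρu)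
      (by rw [← hp', ← SubmonoidClass.coe_pow, hρ, ← pow_mul, h12]; rfl) (fun e => hρ1 (Subtype.ext (hp'.trans e)))
    set κ := ρ * b8 * ρ⁻¹ * b8⁻¹ with hκ
    have hκv : (κ : Perm (Fin 8)) = bl p' * b8 * (bl p')⁻¹ * (b8 : Perm (Fin 8))⁻¹ := by rw [hκ, ← hp']; rfl
    have hκu : κ * u8 = u8 * κ := by
      have hc : Commute ρ u8 := hρu
      exact (((hc.mul_left hbu').mul_left hc.inv_left).mul_left hbu'.inv_left).eq
    have hmem : π (el8 κ hκu) ∈ O := by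
      rw [show el8 κ hκu = el8 ρ hρu * (bY * (el8 ρ hρu)⁻¹ * bY⁻¹) from Subtype.ext (by
        show A.Φ κ = A.Φ ρ * (A.Φ b8 * (A.Φ ρ)⁻¹ * (A.Φ b8)⁻¹)
        rw [hκ, map_mul, map_mul, map_mul, map_inv, map_inv]; group), map_mul, map_mul, map_mul, map_inv, map_inv]
      exact mul_mem (hyρ ▸ hyO) (hOn.conj_mem _ (inv_mem (hyρ ▸ hyO)) _)
    have h1 := hodd2 _ hmem (by
      rw [← map_mul, show el8 κ hκu * el8 κ hκu = 1 from Subtype.ext (by
        show A.Φ κ * A.Φ κ = 1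
        rw [← map_mul, show κ * κ = 1 from Subtype.ext (by rw [Subgroup.coe_mul, hκv]; exact m3), map_one]), map_one])
    rcases hπ _ _ (h1.trans (map_one π).symm) with e | e
    · exact m1 (by
        rw [← hκv, show κ = 1 from (A.Φ_inj ((map_one A.Φ).trans e)).symm]; rfl)
    · rw [show ((el8 κ hκu : Y) : G) = A.Φ κ from rfl, ← map_mul] at e
      have e1 : κ * u8 = 1 := (A.Φ_inj ((map_one A.Φ).trans e)).symm
      exact m2 (by rw [← hκv, show κ = u8 by rw [mul_eq_one_iff_eq_inv] at e1; rw [e1]; decide +kernel])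
  -- conjugation on the core
  have hconjπ : ∀ (a : Y) (y : Y), π a * π y * (π a)⁻¹ = π y → π (y * a * y⁻¹) = π a := by
    intro a y h
    rw [map_mul, map_mul, map_inv, mul_inv_eq_iff_eq_mul, ← mul_inv_eq_iff_eq_mul.1 h]
  have hfix_v : ∀ o ∈ O, π vY * o * (π vY)⁻¹ = o → o = 1 := by
    intro o ho h
    obtain ⟨y, rfl⟩ := QuotientGroup.mk'_surjective _ o
    exact hsmall y (hnormv y (hconjπ vY y h)) ho
  have hfix_bc : ∀ o ∈ O, π bY * o * (π bY)⁻¹ = o → π cY * o * (π cY)⁻¹ = o → o = 1 := by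
    intro o ho h1 h2
    obtain ⟨y, rfl⟩ := QuotientGroup.mk'_surjective _ o
    exact hsmall y (A.second_four_mem (hexact b8 hbu'.eq hTb hbu y (hconjπ bY y h1))
      (hexact c8 hcu'.eq hTc hcu y (hconjπ cY y h2))) ho
  have hfix_z : ∀ o ∈ O, π zY * o * (π zY)⁻¹ = o → o = 1 := by
    intro o ho h1
    obtain ⟨y, rfl⟩ := QuotientGroup.mk'_surjective _ o
    refine hsmall y ?_ ho
    have hz3 : zY ^ 3 = 1 := Subtype.ext (by
      show A.Φ z8 ^ 3 = 1
      rw [← map_pow, show z8 ^ 3 = 1 by decide +kernel, map_one])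
    rcases hπ _ _ (hconjπ zY y h1).symm with e | e
    · refine A.range_f_le (A.f_norm _ (Or.inl ?_))
      rw [← A.Φ_z]
      exact e
    · exfalso
      have h3 : ((y * zY * y⁻¹ : Y) : G) ^ 3 = 1 := by
        rw [← SubmonoidClass.coe_pow, conj_pow, hz3, mul_one, mul_inv_cancel]
        rfl
      rw [e, show ((zY : Y) : G) = A.Φ z8 from rfl, ← map_mul, ← map_pow] at h3
      exact absurd (A.Φ_inj (h3.trans (map_one A.Φ).symm)) (by decide +kernel)
  -- `v` inverts the core, which is therefore abelian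
  let φv : O →* O := ((MulAut.conjNormal (π vY) : MulAut O) : O ≃* O).toMonoidHom
  have hφv : ∀ o : O, (φv o : Y ⧸ zpowers uY) = π vY * o * (π vY)⁻¹ := fun o => MulAut.conjNormal_apply _ _
  have hvv : π vY * π vY = 1 := by rw [← pow_two]; exact hiso.1 ▸ pow_orderOf_eq_one (π vY)
  have hfpf : MonoidHom.FixedPointFree φv := fun o h => Subtype.ext (hfix_v o o.2 ((hφv o).symm.trans (congrArg Subtype.val h)))
  have hinvol : Function.Involutive φv := fun o => Subtype.ext (by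
    rw [hφv, hφv, show π vY * (π vY * (o : Y ⧸ zpowers uY) * (π vY)⁻¹) * (π vY)⁻¹
      = (π vY * π vY) * o * (π vY * π vY)⁻¹ by group, hvv]; group)
  have habel : ∀ a ∈ O, ∀ b ∈ O, a * b = b * a := fun a ha b hb =>
    congrArg Subtype.val (MonoidHom.FixedPointFree.commute_all_of_involutive hfpf hinvol ⟨a, ha⟩ ⟨b, hb⟩).eq
  -- the action of the twelve
  set B := π bY with hB
  set C := π cY with hC
  set Z := π zY with hZ
  have hBC : B * C = C * B := by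
    rw [hB, hC, ← map_mul, ← map_mul, show bY * cY = cY * bY from Subtype.ext (A.map_comm hbc.eq).eq]
  have hsq : ∀ σ : A8, ∀ hσ, σ * σ = 1 → π (el8 σ hσ) * π (el8 σ hσ) = 1 := fun σ hσ h => by
    rw [← map_mul, show el8 σ hσ * el8 σ hσ = 1 from Subtype.ext (by
      show A.Φ σ * A.Φ σ = 1
      rw [← map_mul, h, map_one]), map_one]
  have hBB : B * B = 1 := hsq b8 hbu'.eq (by decide +kernel)
  have hCC : C * C = 1 := hsq c8 hcu'.eq (by decide +kernel)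
  have hzrel : ∀ σ τ : A8, ∀ hσ hτ, z8 * σ * z8⁻¹ = τ → Z * π (el8 σ hσ) * Z⁻¹ = π (el8 τ hτ) := fun σ τ hσ hτ h => by
    rw [hZ, ← map_inv, ← map_mul, ← map_mul]
    exact congrArg π (Subtype.ext (by show A.Φ z8 * A.Φ σ * (A.Φ z8)⁻¹ = A.Φ τ; rw [← h, map_mul, map_mul, map_inv]))
  have hZB : Z * B * Z⁻¹ = B * C := by
    rw [hB, hC, ← map_mul]
    exact hzrel b8 (b8 * c8) hbu'.eq ((hbu'.mul_left hcu').eq) hzb |>.trans (congrArg π (Subtype.ext (map_mul A.Φ b8 c8)))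
  have hZC : Z * C * Z⁻¹ = B := hzrel c8 b8 hcu'.eq hbu'.eq hzc
  have hZ3 : Z * Z * Z = 1 := by
    rw [hZ, ← map_mul, ← map_mul, show zY * zY * zY = 1 from Subtype.ext (by
      show A.Φ z8 * A.Φ z8 * A.Φ z8 = 1
      rw [← map_mul, ← map_mul, show z8 * z8 * z8 = 1 by decide +kernel, map_one]), map_one]
  have hfixB : ∀ o ∈ O, B * o * B⁻¹ = o → o = 1 := by
    intro o ho hBo
    have hCo : C * o * C⁻¹ = o⁻¹ := by
      have h1 : o * (C * o * C⁻¹) = 1 := by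
        refine hfix_bc _ (mul_mem ho (hOn.conj_mem _ ho C)) ?_ ?_
        · rw [← conj_mul, hBo, show B * (C * o * C⁻¹) * B⁻¹ = (B * C) * o * (B * C)⁻¹ by group, hBC,
            show C * B * o * (C * B)⁻¹ = C * (B * o * B⁻¹) * C⁻¹ by group, hBo]
        · rw [← conj_mul, show C * (C * o * C⁻¹) * C⁻¹ = (C * C) * o * (C * C)⁻¹ by group, hCC, one_mul, inv_one,
            mul_one]
          exact habel _ (hOn.conj_mem _ ho C) _ ho
      exact eq_inv_of_mul_eq_one_right h1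
    set a := Z * o * Z⁻¹ with ha
    set b := Z * Z * o * (Z * Z)⁻¹ with hb
    have haO : a ∈ O := hOn.conj_mem _ ho _
    have hbO : b ∈ O := hOn.conj_mem _ ho _
    have hsum : o * a * b = 1 := by
      refine hfix_z _ (mul_mem (mul_mem ho haO) hbO) ?_
      rw [← conj_mul, ← conj_mul, show Z * a * Z⁻¹ = b by rw [ha, hb]; group,
        show Z * b * Z⁻¹ = (Z * Z * Z) * o * (Z * Z * Z)⁻¹ by rw [hb]; group, hZ3, one_mul, inv_one, mul_one, ← ha,
        habel _ (mul_mem haO hbO) _ ho, ← mul_assoc]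
    have hBa : B * a * B⁻¹ = a⁻¹ := by
      calc B * a * B⁻¹ = Z * C * Z⁻¹ * (Z * o * Z⁻¹) * (Z * C * Z⁻¹)⁻¹ := by rw [hZC]
        _ = Z * (C * o * C⁻¹) * Z⁻¹ := by group
        _ = a⁻¹ := by rw [hCo, ha]; group
    have hBb : B * b * B⁻¹ = b⁻¹ := by
      have hBCo : B * C * o * (B * C)⁻¹ = o⁻¹ := by
        rw [show B * C * o * (B * C)⁻¹ = B * (C * o * C⁻¹) * B⁻¹ by group, hCo, ← conj_inv, hBo]
      have hBeq : Z * Z * (B * C) * (Z * Z)⁻¹ = B := by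
        have e1 : Z * (B * C) * Z⁻¹ = C := by
          rw [← conj_mul, hZB, hZC, mul_assoc, ← hBC, ← mul_assoc, hBB, one_mul]
        rw [show Z * Z * (B * C) * (Z * Z)⁻¹ = Z * (Z * (B * C) * Z⁻¹) * Z⁻¹ by group, e1, hZC]
      calc B * b * B⁻¹ = Z * Z * (B * C) * (Z * Z)⁻¹ * (Z * Z * o * (Z * Z)⁻¹) * (Z * Z * (B * C) * (Z * Z)⁻¹)⁻¹ := by
            rw [hBeq, hb]
        _ = Z * Z * (B * C * o * (B * C)⁻¹) * (Z * Z)⁻¹ := by group
        _ = b⁻¹ := by rw [hBCo, hb]; simp [mul_inv_rev, mul_assoc]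
    have h2 : o * a⁻¹ * b⁻¹ = 1 := by
      calc o * a⁻¹ * b⁻¹ = B * (o * a * b) * B⁻¹ := by rw [← conj_mul, ← conj_mul, hBo, hBa, hBb]
        _ = 1 := by rw [hsum]; group
    refine hodd2 o ho ?_
    have e1 : o = a * b := by
      rw [mul_assoc, ← mul_inv_rev, mul_inv_eq_one] at h2
      rw [h2, habel _ hbO _ haO]
    rwa [mul_assoc, ← e1] at hsum
  -- all three invert, so the core is trivial
  have hinv : ∀ (E : Y ⧸ zpowers uY), E * E = 1 → (∀ o ∈ O, E * o * E⁻¹ = o → o = 1) →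
      ∀ o ∈ O, E * o * E⁻¹ = o⁻¹ := by
    intro E hE hfx o ho
    have h1 : o * (E * o * E⁻¹) = 1 := by
      refine hfx _ (mul_mem ho (hOn.conj_mem _ ho E)) ?_
      rw [← conj_mul, show E * (E * o * E⁻¹) * E⁻¹ = (E * E) * o * (E * E)⁻¹ by group, hE, one_mul, inv_one, mul_one]
      exact habel _ (hOn.conj_mem _ ho E) _ ho
    exact eq_inv_of_mul_eq_one_right h1
  have hfixC : ∀ o ∈ O, C * o * C⁻¹ = o → o = 1 := by
    intro o ho h
    have := hfixB (Z * o * Z⁻¹) (hOn.conj_mem _ ho _) (by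
      calc B * (Z * o * Z⁻¹) * B⁻¹ = Z * C * Z⁻¹ * (Z * o * Z⁻¹) * (Z * C * Z⁻¹)⁻¹ := by rw [hZC]
        _ = Z * (C * o * C⁻¹) * Z⁻¹ := by group
        _ = _ := by rw [h])
    exact conj_eq_one_iff.1 this
  have hObot : ∀ o ∈ O, o = 1 := by
    intro o ho
    have h1 := hinv B hBB hfixB
    have h2 := hinv C hCC hfixC
    have hfix : B * C * o * (B * C)⁻¹ = o := by
      rw [show B * C * o * (B * C)⁻¹ = B * (C * o * C⁻¹) * B⁻¹ by group, h2 o ho, ← conj_inv, h1 o ho, inv_inv]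
    -- the product is a conjugate of `B`
    have := hfixB (Z⁻¹ * o * Z⁻¹⁻¹) (hOn.conj_mem _ ho _) (by
      calc B * (Z⁻¹ * o * Z⁻¹⁻¹) * B⁻¹ = Z⁻¹ * ((Z * B * Z⁻¹) * o * (Z * B * Z⁻¹)⁻¹) * Z⁻¹⁻¹ := by group
        _ = _ := by rw [hZB, hfix])
    exact conj_eq_one_iff.1 this
  -- so the four-group is normal modulo `u`
  intro g hg
  refine hnormv ⟨g, hg⟩ ?_
  have h := hObot _ (Cfsg.Lib.ZStarApps.zstarProp hiso (π ⟨g, hg⟩))
  rw [map_mul, map_mul, map_inv, mul_inv_eq_iff_eq_mul]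
  rw [mul_inv_eq_one, mul_inv_eq_iff_eq_mul] at h
  exact h.symm

/-- An involution with four fixed points has its centraliser in the copy. -/
theorem cent_Tu_le {σ : A8} (h : Tu (σ : Perm (Fin 8))) : centralizer ({A.Φ σ} : Set G) ≤ A.Φ.range := by
  obtain ⟨ρ, rfl⟩ := conj_of_type h
  intro c hc
  rw [mem_centralizer_singleton_iff, map_mul, map_mul, map_inv] at hc
  have h1 := A.cent_u_le (mem_centralizer_singleton_iff.2
    (show (A.Φ ρ)⁻¹ * c * A.Φ ρ * A.Φ u8 = A.Φ u8 * ((A.Φ ρ)⁻¹ * c * A.Φ ρ) by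
      calc (A.Φ ρ)⁻¹ * c * A.Φ ρ * A.Φ u8 = (A.Φ ρ)⁻¹ * (c * (A.Φ ρ * A.Φ u8 * (A.Φ ρ)⁻¹)) * A.Φ ρ := by group
        _ = _ := by rw [hc]; group))
  have hr : A.Φ ρ ∈ A.Φ.range := ⟨ρ, rfl⟩
  have := mul_mem (mul_mem hr h1) (inv_mem hr)
  rwa [show A.Φ ρ * ((A.Φ ρ)⁻¹ * c * A.Φ ρ) * (A.Φ ρ)⁻¹ = c by group] at this

/-- Conjugation cannot bring such an involution back into the copy from outside. -/
theorem mem_of_conj_Tu {σ : A8} (h : Tu (σ : Perm (Fin 8))) {g : G} (hg : g * A.Φ σ * g⁻¹ ∈ A.Φ.range) :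
    g ∈ A.Φ.range := by
  obtain ⟨τ, hτ⟩ := hg
  obtain ⟨ρ, hρ⟩ := conj_of_type (A.type_transfer h hτ.symm)
  obtain ⟨ρ', rfl⟩ := conj_of_type h
  have hmem := A.cent_u_le (mem_centralizer_singleton_iff.2 (show
      (A.Φ ρ)⁻¹ * g * A.Φ ρ' * A.Φ u8 = A.Φ u8 * ((A.Φ ρ)⁻¹ * g * A.Φ ρ') by
    calc (A.Φ ρ)⁻¹ * g * A.Φ ρ' * A.Φ u8
        = (A.Φ ρ)⁻¹ * (g * A.Φ (ρ' * u8 * ρ'⁻¹) * g⁻¹) * g * A.Φ ρ' := by rw [map_mul, map_mul, map_inv]; group
      _ = _ := by rw [← hτ, ← hρ, map_mul, map_mul, map_inv]; group))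
  have := mul_mem (mul_mem (⟨ρ, rfl⟩ : A.Φ ρ ∈ A.Φ.range) hmem) (inv_mem (⟨ρ', rfl⟩ : A.Φ ρ' ∈ A.Φ.range))
  rwa [show A.Φ ρ * ((A.Φ ρ)⁻¹ * g * A.Φ ρ') * (A.Φ ρ')⁻¹ = g by group] at this

/-- The centraliser of the other involution lies in the copy. -/
theorem cent_i_le : centralizer ({A.Φ i8} : Set G) ≤ A.Φ.range := by
  intro g hg
  rw [mem_centralizer_singleton_iff] at hg
  obtain ⟨-, -, -, hTb, hTc, hTi, hTci, -, -, -, hTbi⟩ := facts8
  obtain ⟨-, -, -, -, -, -, -, -, -, -, -, hbi, hci, -, -⟩ := relations8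
  have hgi : g * A.Φ i8 * g⁻¹ = A.Φ i8 := by rw [hg, mul_inv_cancel_right]
  set t := A.Φ c8 with ht
  set a := g * A.Φ b8 * g⁻¹ with ha
  have hai : Commute a (A.Φ i8) := by
    show a * A.Φ i8 = A.Φ i8 * a
    rw [← hgi, ha, conj_mul, conj_mul, (A.map_comm hbi.eq).eq]
  have hto : orderOf t = 2 := by
    rw [ht, orderOf_injective _ A.Φ_inj]
    exact orderOf_eq_prime (by decide +kernel) (by decide +kernel)
  have hao : orderOf a = 2 := by
    rw [ha, show g * A.Φ b8 * g⁻¹ = MulAut.conj g (A.Φ b8) from rfl, MulEquiv.orderOf_eq, orderOf_injective _ A.Φ_inj]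
    exact orderOf_eq_prime (by decide +kernel) (by decide +kernel)
  have hai' : a * A.Φ i8 = g * A.Φ (b8 * i8) * g⁻¹ := by
    rw [map_mul, ← conj_mul, hgi]
  by_cases hodd : Odd (orderOf (t * a))
  · exfalso
    obtain ⟨d, hd, hda⟩ := Cfsg.Lib.InvolCalc.conj_of_odd hto hao hodd
    have hdi : Commute d (A.Φ i8) := mem_centralizer_singleton_iff.1 ((closure_le (centralizer ({A.Φ i8} : Set G))).2 (by
      rintro x (rfl | rfl)
      · exact mem_centralizer_singleton_iff.2 (A.map_comm hci.eq).eq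
      · exact mem_centralizer_singleton_iff.2 hai.eq) hd)
    refine hTci (A.type_transfer (σ := b8 * i8) hTbi (g := d⁻¹ * g) ?_)
    rw [show d⁻¹ * g * A.Φ (b8 * i8) * (d⁻¹ * g)⁻¹ = d⁻¹ * (g * A.Φ (b8 * i8) * g⁻¹) * d by group, ← hai', ← hda,
      map_mul, ← ht]
    calc d⁻¹ * (d * t * d⁻¹ * A.Φ i8) * d = t * (d⁻¹ * (A.Φ i8 * d)) := by group
      _ = t * A.Φ i8 := by rw [← hdi.eq, inv_mul_cancel_left]
  rw [Nat.not_odd_iff_even] at hodd
  obtain ⟨hxo, hxt, hxa⟩ := Cfsg.Lib.InvolCalc.central_spec hto hao hodd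
  set k := orderOf (t * a) / 2 with hk
  set x := (t * a) ^ k with hx
  obtain ⟨ρ, hρ⟩ := A.cent_Tu_le hTc (mem_centralizer_singleton_iff.2 hxt.eq)
  have hxi : Commute x (A.Φ i8) := ((A.map_comm hci.eq).mul_left hai).pow_left k
  -- one of the two products is conjugate to one of the two
  have hxtT : Tu ((ρ * c8 : A8) : Perm (Fin 8)) := by
    have hrt : ∀ m : ℕ, (t * a) ^ m * t * ((t * a) ^ m)⁻¹ = (t * a) ^ (2 * m) * t := fun m => by
      have := Cfsg.Lib.InvolCalc.conj_rot hto hao (m : ℤ)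
      rw [zpow_natCast, show (2 * (m : ℤ)) = ((2 * m : ℕ) : ℤ) by push_cast; ring, zpow_natCast] at this
      exact this
    rcases Nat.even_or_odd' k with ⟨m, hm | hm⟩
    · refine A.type_transfer (σ := c8) hTc (g := (t * a) ^ m) ?_
      rw [map_mul, hρ, ← ht, hx, hm, hrt]
    · refine A.type_transfer (σ := b8) hTb (g := (t * a) ^ m * t * g) ?_
      rw [show (t * a) ^ m * t * g * A.Φ b8 * ((t * a) ^ m * t * g)⁻¹ = (t * a) ^ m * (t * a * t⁻¹) * ((t * a) ^ m)⁻¹ by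
          rw [ha]; group,
        Cfsg.Lib.InvolCalc.inv_of_order_two hto, map_mul, hρ, ← ht, hx, hm,
        show (t * a) ^ m * (t * a * t) * ((t * a) ^ m)⁻¹ = (t * a) * ((t * a) ^ m * t * ((t * a) ^ m)⁻¹) by
          rw [← mul_assoc ((t * a) ^ m), ← pow_succ, pow_succ']; simp only [mul_assoc],
        hrt, ← mul_assoc, ← pow_succ']
  have hamem : a ∈ A.Φ.range := by
    by_cases hρT : Tu (ρ : Perm (Fin 8))
    · exact A.cent_Tu_le hρT (mem_centralizer_singleton_iff.2 (by rw [hρ]; exact hxa.eq.symm))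
    -- move the central involution into the frame of `b8`
    have hxb : Commute (g⁻¹ * x * g) (A.Φ b8) := by
      show g⁻¹ * x * g * A.Φ b8 = A.Φ b8 * (g⁻¹ * x * g)
      calc g⁻¹ * x * g * A.Φ b8 = g⁻¹ * (x * a) * g := by rw [ha]; group
        _ = _ := by rw [hxa.eq, ha]; group
    obtain ⟨ρ', hρ'⟩ := A.cent_Tu_le hTb (mem_centralizer_singleton_iff.2 hxb.eq)
    have hconj : g * A.Φ ρ' * g⁻¹ = A.Φ ρ := by rw [hρ, hρ']; group
    have hρ'i : ρ' * i8 = i8 * ρ' := A.comm_iff.1 (by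
      rw [hρ']
      have h := congrArg (fun y => g⁻¹ * y * g⁻¹⁻¹) hxi.eq
      have hgi' : g⁻¹ * A.Φ i8 * g⁻¹⁻¹ = A.Φ i8 := by
        conv_lhs => rw [← hgi]
        group
      rw [← conj_mul, ← conj_mul, hgi', inv_inv] at h
      exact h)
    have hρ'b : ρ' * b8 = b8 * ρ' := A.comm_iff.1 (hρ' ▸ hxb)
    obtain ⟨p, hp⟩ := split_b8 hρ'b
    have hρ'2 : ρ' * ρ' = 1 := A.Φ_inj (by
      rw [map_mul, hρ', map_one, show g⁻¹ * x * g * (g⁻¹ * x * g) = g⁻¹ * (x * x) * g by group, ← pow_two, ← hxo,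
        pow_orderOf_eq_one]
      group)
    have hρ'1 : ρ' ≠ 1 := fun e => by
      rw [e, map_one, eq_comm, show g⁻¹ * x * g = g⁻¹ * x * g⁻¹⁻¹ by group, conj_eq_one_iff] at hρ'
      rw [hρ', orderOf_one] at hxo
      exact absurd hxo (by norm_num)
    have hρ'T : ¬ Tu (ρ' : Perm (Fin 8)) := fun h => hρT (A.type_transfer h hconj)
    have hρ'ne : ρ' ≠ i8 := fun e => by
      rw [e, hgi] at hconj
      rw [← A.Φ_inj hconj] at hxtT
      rw [show i8 * c8 = c8 * i8 from hci.eq.symm] at hxtT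
      exact hTci hxtT
    have hρ'bT : Tu ((ρ' * b8 : A8) : Perm (Fin 8)) := by
      -- the product with `a` is conjugate to one of the generators
      have hrt : ∀ m : ℕ, (t * a) ^ m * t * ((t * a) ^ m)⁻¹ = (t * a) ^ (2 * m) * t := fun m => by
        have := Cfsg.Lib.InvolCalc.conj_rot hto hao (m : ℤ)
        rw [zpow_natCast, show (2 * (m : ℤ)) = ((2 * m : ℕ) : ℤ) by push_cast; ring, zpow_natCast] at this
        exact this
      have hxa' : g * A.Φ (ρ' * b8) * g⁻¹ = x * a := by rw [map_mul, hρ', ha]; group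
      have hsa : a * a = 1 := Cfsg.Lib.InvolCalc.sq_of_order_two hao
      have hst : t * t = 1 := Cfsg.Lib.InvolCalc.sq_of_order_two hto
      have hrn : (t * a) ^ (2 * k) = 1 := by
        obtain ⟨j, hj⟩ := hodd
        rw [hk, hj, show 2 * ((j + j) / 2) = j + j by omega, ← hj, pow_orderOf_eq_one]
      -- write `x * a` as a rotation times `t`
      have hxr : x * a = (t * a) ^ (k + (2 * k - 1)) * t := by
        rw [hx, pow_add]
        rw [mul_assoc]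
        congr 1
        have h1 : (t * a) ^ (2 * k - 1) * (t * a) = 1 := by
          rw [← pow_succ, Nat.sub_add_cancel ?_, hrn]
          rcases Nat.eq_zero_or_pos k with h0 | h0
          · rw [hx, h0, pow_zero, orderOf_one] at hxo
            exact absurd hxo (by norm_num)
          · omega
        calc a = ((t * a) ^ (2 * k - 1) * (t * a)) * a := by rw [h1, one_mul]
          _ = (t * a) ^ (2 * k - 1) * t * (a * a) := by group
          _ = _ := by rw [hsa, mul_one]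
      rcases Nat.even_or_odd' (k + (2 * k - 1)) with ⟨m, hm | hm⟩
      · refine A.type_transfer (σ := c8) hTc (g := g⁻¹ * (t * a) ^ m) ?_
        rw [show g⁻¹ * (t * a) ^ m * A.Φ c8 * (g⁻¹ * (t * a) ^ m)⁻¹ = g⁻¹ * ((t * a) ^ m * t * ((t * a) ^ m)⁻¹) * g by
          rw [ht]; group, hrt, ← hm, ← hxr, ← hxa']
        group
      · refine A.type_transfer (σ := b8) hTb (g := g⁻¹ * ((t * a) ^ m * t * g)) ?_
        rw [show g⁻¹ * ((t * a) ^ m * t * g) * A.Φ b8 * (g⁻¹ * ((t * a) ^ m * t * g))⁻¹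
            = g⁻¹ * ((t * a) ^ m * (t * a * t⁻¹) * ((t * a) ^ m)⁻¹) * g by rw [ha]; group,
          Cfsg.Lib.InvolCalc.inv_of_order_two hto,
          show (t * a) ^ m * (t * a * t) * ((t * a) ^ m)⁻¹ = (t * a) * ((t * a) ^ m * t * ((t * a) ^ m)⁻¹) by
          rw [← mul_assoc ((t * a) ^ m), ← pow_succ, pow_succ']; simp only [mul_assoc],
          hrt, ← mul_assoc (t * a), ← pow_succ', ← hm, ← hxr, ← hxa']
        group
    have hT' : Tu ((ρ' * i8 : A8) : Perm (Fin 8)) := by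
      rw [Subgroup.coe_mul, hp]
      refine i8_partner p (hp ▸ Perm.mem_alternatingGroup.1 ρ'.2) (hp ▸ congrArg Subtype.val hρ'b)
        (hp ▸ congrArg Subtype.val hρ'i) (hp ▸ congrArg Subtype.val hρ'2) (fun e => hρ'1 (Subtype.ext (hp.trans e)))
        (fun e => hρ'ne (Subtype.ext (hp.trans e))) (hp ▸ hρ'T) ?_
      rw [← hp]
      exact hρ'bT
    have hTri : Tu ((ρ * i8 : A8) : Perm (Fin 8)) := A.type_transfer hT' (g := g) (by
      rw [map_mul, ← conj_mul, hconj, hgi, map_mul])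
    refine A.cent_Tu_le hTri (mem_centralizer_singleton_iff.2 ?_)
    rw [map_mul, hρ]
    exact (hxa.symm.mul_right hai).eq
  exact A.mem_of_conj_Tu hTb hamem

/-- The copy is everything. -/
theorem range_eq_top : A.Φ.range = ⊤ := by
  by_contra hne
  have hTi := facts8.2.2.2.2.2.1
  have heven : Even (Nat.card A.Φ.range) := by
    rw [Nat.card_congr (MonoidHom.ofInjective A.Φ_inj).symm.toEquiv, nat_card_alternatingGroup, Nat.card_fin]
    decide
  have hC : ∀ t ∈ A.Φ.range, orderOf t = 2 → centralizer ({t} : Set G) ≤ A.Φ.range := by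
    rintro _ ⟨σ, rfl⟩ ht
    rw [orderOf_injective _ A.Φ_inj] at ht
    have h2 : σ * σ = 1 := by rw [← pow_two]; exact orderOf_dvd_iff_pow_eq_one.1 ht.dvd
    rcases classify σ h2 (fun e => by rw [e, orderOf_one] at ht; exact absurd ht (by norm_num)) with ⟨hT, -⟩ | ⟨-, hc⟩
    · exact A.cent_Tu_le hT
    · obtain ⟨k, hk⟩ := isConj_iff.1 hc
      intro c hcc
      rw [mem_centralizer_singleton_iff] at hcc
      have h1 := A.cent_i_le (mem_centralizer_singleton_iff.2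
        (show A.Φ k * c * (A.Φ k)⁻¹ * A.Φ i8 = A.Φ i8 * (A.Φ k * c * (A.Φ k)⁻¹) by
          rw [← hk, map_mul, map_mul, map_inv, conj_mul, conj_mul, hcc]))
      have hr : A.Φ k ∈ A.Φ.range := ⟨k, rfl⟩
      have := mul_mem (mul_mem (inv_mem hr) h1) hr
      rwa [show (A.Φ k)⁻¹ * (A.Φ k * c * (A.Φ k)⁻¹) * A.Φ k = c by group] at this
  have hF : ∀ t ∈ A.Φ.range, ∀ s ∈ A.Φ.range, orderOf t = 2 → orderOf s = 2 → IsConj t s →
      ∃ h ∈ A.Φ.range, h * t * h⁻¹ = s := by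
    rintro _ ⟨σ, rfl⟩ _ ⟨τ, rfl⟩ ht hs hc
    obtain ⟨g, hg⟩ := isConj_iff.1 hc
    rw [orderOf_injective _ A.Φ_inj] at ht hs
    have key : ∀ π : A8, orderOf π = 2 → (Tu (π : Perm (Fin 8)) ∧ IsConj π u8) ∨ (¬ Tu (π : Perm (Fin 8)) ∧ IsConj π i8) :=
      fun π h => classify π (by rw [← pow_two]; exact orderOf_dvd_iff_pow_eq_one.1 h.dvd)
        (fun e => by rw [e, orderOf_one] at h; exact absurd h (by norm_num))
    have hc' : IsConj σ τ := by
      rcases key σ ht with ⟨h1, c1⟩ | ⟨h1, c1⟩ <;> rcases key τ hs with ⟨h2, c2⟩ | ⟨h2, c2⟩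
      · exact c1.trans c2.symm
      · exact absurd (A.type_transfer h1 hg) h2
      · exact absurd (A.type_transfer h2 (g := g⁻¹) (by rw [← hg]; group)) h1
      · exact c1.trans c2.symm
    obtain ⟨k, hk⟩ := isConj_iff.1 hc'
    exact ⟨A.Φ k, ⟨k, rfl⟩, by rw [← hk, map_mul, map_mul, map_inv]⟩
  have hall := Cfsg.Lib.StrongEmb.all_conj (Cfsg.Lib.StrongEmb.of_conditions hne heven hC hF)
    (a := A.Φ u8) (b := A.Φ i8)
    (by rw [orderOf_injective _ A.Φ_inj]; exact orderOf_eq_prime (by decide +kernel) (by decide +kernel))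
    (by rw [orderOf_injective _ A.Φ_inj]; exact orderOf_eq_prime (by decide +kernel) (by decide +kernel))
  obtain ⟨g, hg⟩ := isConj_iff.1 hall
  exact hTi (A.type_of_conj hg)

end Cfsg.Lib.AltEightLocal.Gen
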