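import Mathlib.GroupTheory.SpecificGroups.Alternating
import Mathlib.GroupTheory.Perm.Fin
import Mathlib.GroupTheory.Perm.ClosureSwap

/-!
The subgroup of index two of `Sym(3) × Sym(5)` and its finite facts.
-/

set_option autoImplicit false
set_option maxRecDepth 100000
set_option synthInstance.maxSize 4096
set_option synthInstance.maxHeartbeats 200000
set_option maxHeartbeats 1000000

namespace Cfsg.Lib.AltEightLocal

open Equiv

abbrev Pr := Perm (Fin 3) × Perm (Fin 5)

/-- The pairs with equal signs. -/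
abbrev L0 : Subgroup Pr :=
  (((Equiv.Perm.sign).comp (MonoidHom.fst (Equiv.Perm (Fin 3)) (Equiv.Perm (Fin 5)))) *
    ((Equiv.Perm.sign).comp (MonoidHom.snd (Equiv.Perm (Fin 3)) (Equiv.Perm (Fin 5))))).ker

theorem mem_L0 {x : Pr} : x ∈ L0 ↔ Perm.sign x.1 * Perm.sign x.2 = 1 := Iff.rfl

instance instDecMem : DecidablePred (· ∈ L0) := fun _ => decidable_of_iff _ mem_L0.symm

instance instFintype : Fintype L0 := Subtype.fintype _

/-- An element of the subgroup. -/
def el (a : Perm (Fin 3)) (b : Perm (Fin 5)) (h : Perm.sign a * Perm.sign b = 1 := by decide +kernel) : L0 :=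
  ⟨(a, b), h⟩

/-- The three-cycle on three points. -/
abbrev c3 : Perm (Fin 3) := swap 0 1 * swap 1 2

/-- The three-cycle on the first three of five points. -/
abbrev c5 : Perm (Fin 5) := swap 0 1 * swap 1 2

/-- The first three-element. -/
def zL : L0 := el c3 1
/-- The second three-element. -/
def wL : L0 := el 1 c5
/-- The involution inverting the second three-element. -/
def rL : L0 := el 1 (swap 0 1 * swap 3 4)
/-- Generators. -/
def s3 : L0 := el (swap 0 1) (swap 3 4)
def s4 : L0 := el (swap 0 1) (swap 4 0)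
def s5 : L0 := el (swap 0 1) (swap 0 1)
def s6 : L0 := el (swap 0 1) (swap 1 2)
def t6 : L0 := el (swap 1 2) (swap 0 1)
/-- The four-group. -/
def uL : L0 := el 1 (swap 4 0 * swap 1 2)
def vL : L0 := el 1 (swap 4 1 * swap 0 2)
def oL : L0 := el 1 (swap 4 2 * swap 0 1)
/-- Candidates for the missing generator. -/
def bL : L0 := el 1 (swap 0 1 * swap 2 3)
def bL' : L0 := el 1 (swap 0 1 * swap 2 4)

/-- To quantify over the subgroup through the pairs. -/
theorem forall_L0 {p : L0 → Prop} (h : ∀ (a : Perm (Fin 3)) (b : Perm (Fin 5)) (hm : Perm.sign a * Perm.sign b = 1),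
    p (el a b hm)) (x : L0) : p x := h x.1.1 x.1.2 x.2

/-- The candidates for a generator of a normal subgroup of order three. -/
theorem normal_three_pr : ∀ x : Pr, x ∈ L0 → x * x * x = 1 → x ≠ 1 →
    ((1, c5) * x * (1, c5)⁻¹ = x ∨ (1, c5) * x * (1, c5)⁻¹ = x⁻¹) →
    (((1 : Perm (Fin 3)), (swap 2 3 * swap 3 4 : Perm (Fin 5))) * x * (1, swap 2 3 * swap 3 4)⁻¹ = x ∨
      ((1 : Perm (Fin 3)), (swap 2 3 * swap 3 4 : Perm (Fin 5))) * x * (1, swap 2 3 * swap 3 4)⁻¹ = x⁻¹) →
    x = (c3, 1) ∨ x = (c3 * c3, 1) := by decide +kernel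

theorem zL_pow : zL * zL * zL = 1 := by decide +kernel
theorem wL_pow : wL * wL * wL = 1 := by decide +kernel
theorem zw_comm : zL * wL = wL * zL := by decide +kernel

/-- The three-cycles of five points are conjugate to the chosen one. -/
theorem three_cycle_conj : ∀ b : Perm (Fin 5), b * b * b = 1 → b ≠ 1 → ∃ s : Perm (Fin 5), s * b * s⁻¹ = c5 := by
  decide +kernel

/-- The elements of order dividing three commuting with `(c,1)`. -/
theorem cube_comm : ∀ x : L0, x * x * x = 1 → x * zL = zL * x →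
    x.1.1 = 1 ∨ x.1.1 = c3 ∨ x.1.1 = c3 * c3 := by decide +kernel

/-- The nine elements. -/
def torus : Finset L0 := (Finset.range 3 ×ˢ Finset.range 3).image fun p => zL ^ p.1 * wL ^ p.2

theorem card_normalizing : (Finset.univ.filter fun x : L0 => x * zL * x⁻¹ ∈ torus ∧ x * wL * x⁻¹ ∈ torus).card = 36 := by
  decide +kernel

theorem normalizing_w : ∀ x : L0, x * zL * x⁻¹ ∈ torus → x * wL * x⁻¹ ∈ torus →
    x * wL * x⁻¹ = wL ∨ x * wL * x⁻¹ = wL⁻¹ := by decide +kernel

theorem normalizing_z : ∀ x : L0, x * zL * x⁻¹ = zL ∨ x * zL * x⁻¹ = zL⁻¹ := by decide +kernel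

theorem fixed_lines : ∀ x ∈ torus, (rL * x * rL⁻¹ = x ∨ rL * x * rL⁻¹ = x⁻¹) →
    (x = 1 ∨ x = zL ∨ x = zL⁻¹) ∨ x = wL ∨ x = wL⁻¹ := by decide +kernel

theorem off_lines : ∀ x ∈ torus, x ≠ 1 → x ≠ zL → x ≠ zL⁻¹ → x ≠ wL → x ≠ wL⁻¹ →
    x = zL * wL ∨ x = (zL * wL)⁻¹ ∨ x = rL * (zL * wL) * rL⁻¹ ∨ x = (rL * (zL * wL) * rL⁻¹)⁻¹ := by
  decide +kernel

theorem r_signs : rL * zL * rL⁻¹ = zL ∧ rL * wL * rL⁻¹ = wL⁻¹ ∧ s5 * zL * s5⁻¹ = zL⁻¹ ∧ s5 * wL * s5⁻¹ = wL⁻¹ := by
  decide +kernel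

theorem card_even_part : 18 < (Finset.univ.filter fun x : L0 => x * zL = zL * x).card := by decide +kernel

theorem s3_facts : s3 * s3 = 1 ∧ s3 * wL = wL * s3 ∧ s3 * zL * s3⁻¹ = zL⁻¹ := by decide +kernel

theorem s6_facts : s6 * s6 = 1 ∧ s6 * wL * s6⁻¹ = wL⁻¹ ∧ s6 * zL * s6⁻¹ = zL⁻¹ ∧ s6 * s3 = s3 * s6 := by
  decide +kernel

theorem third_gen : ∀ x : L0, x * x = 1 → x * zL = zL * x → x * wL * x⁻¹ = wL⁻¹ → ∃ k ∈ Finset.range 3,
    ((1 : Perm (Fin 3)), c5 ^ k) * (x : Pr) * (1, c5 ^ k)⁻¹ = (rL : Pr) := by decide +kernel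

theorem sixth_gen : ∀ x : L0, x * x = 1 → x * zL * x⁻¹ = zL⁻¹ → x * wL * x⁻¹ = wL⁻¹ → x * rL = rL * x →
    ∃ k ∈ Finset.range 3, (c3 ^ k, (1 : Perm (Fin 5))) * (x : Pr) * (c3 ^ k, 1)⁻¹ = (t6 : Pr) := by decide +kernel

theorem cent_four_z : ∀ x : L0, x * uL = uL * x → x * vL = vL * x → x * zL = zL * x := by decide +kernel

theorem cent_four_card : (Finset.univ.filter fun x : L0 => x * uL = uL * x ∧ x * vL = vL * x).card = 12 := by
  decide +kernel

theorem cent_four_elts : ∀ x : L0, x * uL = uL * x → x * vL = vL * x → ∃ k ∈ Finset.range 3,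
    x = zL ^ k ∨ x = uL * zL ^ k ∨ x = vL * zL ^ k ∨ x = uL * vL * zL ^ k := by decide +kernel

theorem cent_four_w : ∀ x : L0, x * uL = uL * x → x * vL = vL * x → x * wL = wL * x →
    x = 1 ∨ x = zL ∨ x = zL⁻¹ := by decide +kernel

theorem w_not_cent_four : wL * uL ≠ uL * wL ∧ wL⁻¹ * uL ≠ uL * wL⁻¹ := by decide +kernel

/-- A word. -/
def word : List Bool → L0 → L0
  | [], _ => 1
  | true :: l, x => x * word l x
  | false :: l, x => wL * word l x

/-- The words used to find an involution. -/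
def words : List (List Bool) :=
  [[true, false, true, true, true, true, false, false, true], [true, true, false, true, false, false],
    [true, false, true, true, false, false], [true, true, true, false, false, true, false, false, true, true],
    [true, true, false, false, true, false, true, true], [true, false, false, true, false, true],
    [true, false, true, false, false, true], [false, false, true, true, false, true],
    [false, true, false, false, true, false, true, false, false]]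

theorem find_involution : ∀ x : L0, x * zL = zL * x → x.1.2 ≠ 1 → x.1.2 ≠ c5 → x.1.2 ≠ c5 * c5 →
    ∃ l ∈ words, word l x * wL * (word l x)⁻¹ = wL⁻¹ ∨ word l x = bL ∨ word l x = bL' := by
  decide +kernel

theorem abbrev_A3 : ∀ x : L0, x * zL = zL * x → (x.1.2 = 1 ∨ x.1.2 = c5 ∨ x.1.2 = c5 * c5) →
    ∃ i ∈ Finset.range 3, ∃ j ∈ Finset.range 3, x = zL ^ i * wL ^ j := by decide +kernel

end Cfsg.Lib.AltEightLocal
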