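import Cfsg.Agent.LocalThree.AltEightLocal.Four
import Cfsg.Agent.S0112
import Cfsg.Agent.S0113
import Cfsg.Agent.Transfer.ThompsonTransfer
import Cfsg.Agent.InvolCalc.Classes

/-!
Something beyond `z` centralises the four-group and the second three-element.
-/

set_option autoImplicit false
set_option synthInstance.maxSize 4096
set_option maxRecDepth 100000
set_option maxHeartbeats 1000000

namespace Cfsg.Lib.AltEightLocal

open Equiv Subgroup

universe u

/-- The eight elements of a dihedral group. -/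
def octet : Finset L0 := {1, uL, vL, uL * vL, s6, uL * s6, vL * s6, uL * vL * s6}

/-- The dihedral group of order eight. -/
def octGrp : Subgroup L0 where
  carrier := {x | x ∈ octet}
  one_mem' := by decide +kernel
  mul_mem' {a b} ha hb := by
    have h : ∀ a ∈ octet, ∀ b ∈ octet, a * b ∈ octet := by decide +kernel
    exact h a ha b hb
  inv_mem' {a} ha := by
    have h : ∀ a ∈ octet, a⁻¹ ∈ octet := by decide +kernel
    exact h a ha

/-- Three-elements. -/
def triples : List L0 :=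
  [1, wL, el 1 (swap 2 3 * swap 3 4), el 1 (swap 0 3 * swap 3 4), el 1 (swap 1 2 * swap 2 4)]

theorem even_prod : ∀ a : L0, a * zL = zL * a → ∃ p ∈ triples, p * p * p = 1 ∧ (p * a) ^ 15 = 1 := by
  decide +kernel

theorem two_cosets : ∀ a : L0, a * zL = zL * a ∨ a * s3 * zL = zL * (a * s3) := by decide +kernel

theorem four_two_part : ∀ a : L0, a * uL = uL * a → a * vL = vL * a →
    a ^ 6 = 1 ∧ (a ^ 2 = 1 → a = 1 ∨ a = uL ∨ a = vL ∨ a = uL * vL) := by decide +kernel

theorem four_moved : s6 * vL ≠ vL * s6 ∧ s6 * (uL * vL) ≠ uL * vL * s6 ∧ s6 * uL = uL * s6 := by decide +kernel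

theorem u_to_v : wL * uL * wL⁻¹ = vL ∨ wL⁻¹ * uL * wL⁻¹⁻¹ = vL := by decide +kernel

namespace Loc

variable {G : Type u} [Group G] (L : Loc G) [Finite G]

/-- There is a further element. -/
theorem exists_extra : ∃ x ∈ L.four, Commute x L.w ∧ x ≠ 1 ∧ x ≠ L.z ∧ x ≠ L.z⁻¹ := by
  classical
  haveI : Fact (Nat.Prime 2) := ⟨Nat.prime_two⟩
  by_contra hcon
  push Not at hcon
  have hsmall := L.four_small fun x hx hw => by
    by_contra h
    push Not at h
    exact h.2.2 (hcon x hx hw h.1 h.2.1)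
  have htwo : ∀ x ∈ L.four, ∀ n : ℕ, x ^ (2 ^ n) = 1 → x = 1 ∨ x = L.u ∨ x = L.v ∨ x = L.u * L.v := by
    intro x hx n hn
    obtain ⟨a, rfl, -⟩ := L.cent_z (hsmall x hx)
    obtain ⟨h6, h2⟩ := four_two_part a (L.comm_f_iff.1 (L.mem_four.1 hx).1) (L.comm_f_iff.1 (L.mem_four.1 hx).2)
    have ha : a ^ 2 = 1 := by
      have h1 : orderOf a ∣ 2 ^ n := orderOf_dvd_of_pow_eq_one (L.f_inj (by rw [map_pow, hn, map_one]))
      have h3 : orderOf a ∣ 6 := orderOf_dvd_of_pow_eq_one h6
      have hcop : (orderOf a).Coprime 3 := Nat.Coprime.coprime_dvd_left h1 (Nat.Coprime.pow_left n (by norm_num))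
      exact orderOf_dvd_iff_pow_eq_one.1 (hcop.dvd_of_dvd_mul_right (show orderOf a ∣ 2 * 3 from h3))
    rcases h2 ha with e | e | e | e <;> rw [e]
    · exact Or.inl (map_one _)
    · exact Or.inr (Or.inl rfl)
    · exact Or.inr (Or.inr (Or.inl rfl))
    · exact Or.inr (Or.inr (Or.inr (map_mul _ _ _)))
  -- a Sylow subgroup
  have h8 : Nat.card (octGrp.map L.f) = 8 := by
    rw [card_map_of_injective L.f_inj, show Nat.card octGrp = Nat.card {x // x ∈ octet} from rfl,
      Nat.card_eq_fintype_card, Fintype.card_coe]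
    decide +kernel
  obtain ⟨S, hS⟩ := (IsPGroup.iff_card.2 ⟨3, h8⟩ : IsPGroup 2 (octGrp.map L.f)).exists_le_sylow
  obtain ⟨n, hn⟩ := IsPGroup.iff_card.1 S.isPGroup'
  have hn3 : 3 ≤ n := by
    have h := card_dvd_of_le hS
    rw [h8, hn, show (8 : ℕ) = 2 ^ 3 from rfl] at h
    exact (Nat.pow_dvd_pow_iff_le_right (by norm_num)).1 h
  have hmem : ∀ a ∈ octet, L.f a ∈ (S : Subgroup G) := fun a ha => hS (mem_map_of_mem L.f (show a ∈ octGrp from ha))
  let uS : S := ⟨L.u, hmem _ (by decide +kernel)⟩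
  let vS : S := ⟨L.v, hmem _ (by decide +kernel)⟩
  let sS : S := ⟨L.f s6, hmem _ (by decide +kernel)⟩
  have hcentS : ∀ x : S, Commute x uS → Commute x vS → x = 1 ∨ x = uS ∨ x = vS ∨ x = uS * vS := by
    intro x hxu hxv
    obtain ⟨k, hk⟩ := S.isPGroup' x
    have hx : (x : G) ∈ L.four := L.mem_four.2 ⟨congrArg Subtype.val hxu.eq, congrArg Subtype.val hxv.eq⟩
    rcases htwo x hx k (congrArg Subtype.val hk) with e | e | e | e
    · exact Or.inl (Subtype.ext e)
    · exact Or.inr (Or.inl (Subtype.ext e))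
    · exact Or.inr (Or.inr (Or.inl (Subtype.ext e)))
    · exact Or.inr (Or.inr (Or.inr (Subtype.ext e)))
  have hfne : ∀ a b : L0, a ≠ b → L.f a ≠ L.f b := fun a b h e => h (L.f_inj e)
  have hu1 : uS ≠ 1 := fun e => hfne uL 1 (by decide +kernel) ((congrArg Subtype.val e).trans L.f.map_one.symm)
  have hv1 : vS ≠ 1 := fun e => hfne vL 1 (by decide +kernel) ((congrArg Subtype.val e).trans L.f.map_one.symm)
  have huv : uS ≠ vS := fun e => hfne uL vL (by decide +kernel) (congrArg Subtype.val e)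
  have huvc : Commute uS vS := Subtype.ext (L.comm_f (by decide +kernel)).eq
  have huu : uS * uS = 1 := Subtype.ext (by
    show L.f uL * L.f uL = 1
    rw [← map_mul, show uL * uL = 1 by decide +kernel, map_one])
  have hvv : vS * vS = 1 := Subtype.ext (by
    show L.f vL * L.f vL = 1
    rw [← map_mul, show vL * vL = 1 by decide +kernel, map_one])
  -- the four-group in the Sylow subgroup
  let A : Subgroup S :=
    { carrier := {x | x = 1 ∨ x = uS ∨ x = vS ∨ x = uS * vS}
      one_mem' := Or.inl rfl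
      mul_mem' := fun {a b} ha hb => hcentS _
        (Commute.mul_left
          (by rcases ha with rfl | rfl | rfl | rfl
              exacts [Commute.one_left _, Commute.refl _, huvc.symm, (Commute.refl uS).mul_left huvc.symm])
          (by rcases hb with rfl | rfl | rfl | rfl
              exacts [Commute.one_left _, Commute.refl _, huvc.symm, (Commute.refl uS).mul_left huvc.symm]))
        (Commute.mul_left
          (by rcases ha with rfl | rfl | rfl | rfl
              exacts [Commute.one_left _, huvc, Commute.refl _, huvc.mul_left (Commute.refl vS)])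
          (by rcases hb with rfl | rfl | rfl | rfl
              exacts [Commute.one_left _, huvc, Commute.refl _, huvc.mul_left (Commute.refl vS)]))
      inv_mem' := fun {a} ha => by
        rcases ha with rfl | rfl | rfl | rfl
        exacts [Or.inl inv_one, Or.inr (Or.inl (inv_eq_of_mul_eq_one_right huu)),
          Or.inr (Or.inr (Or.inl (inv_eq_of_mul_eq_one_right hvv))),
          Or.inr (Or.inr (Or.inr (by
            rw [mul_inv_rev, inv_eq_of_mul_eq_one_right huu, inv_eq_of_mul_eq_one_right hvv, huvc.eq])))] }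
  have hAmem : ∀ x : S, x ∈ A ↔ (x = 1 ∨ x = uS ∨ x = vS ∨ x = uS * vS) := fun x => Iff.rfl
  have hAcard : Nat.card A = 2 ^ 2 := by
    rw [← SetLike.coe_sort_coe, show (A : Set S) = {1, uS, vS, uS * vS} from Set.ext fun x => by simp [hAmem],
      Nat.card_coe_set_eq, Set.ncard_insert_of_notMem, Set.ncard_eq_three.2 ⟨uS, vS, uS * vS, huv, ?_, ?_, rfl⟩]
    · rfl
    · simpa using hv1
    · simpa using hu1
    · simp only [Set.mem_insert_iff, Set.mem_singleton_iff, not_or]
      exact ⟨Ne.symm hu1, Ne.symm hv1, fun e => huv (by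
        rw [eq_comm, mul_eq_one_iff_eq_inv] at e
        rw [e, inv_eq_of_mul_eq_one_right hvv])⟩
  have hAC : centralizer (A : Set S) = A := le_antisymm
    (fun x hx => hcentS x ((mem_centralizer_iff.1 hx uS (Or.inr (Or.inl rfl))).symm)
      ((mem_centralizer_iff.1 hx vS (Or.inr (Or.inr (Or.inl rfl)))).symm))
    (fun x hx => mem_centralizer_iff.2 fun y hy => by
      have hc : ∀ b : S, b ∈ A → Commute b uS ∧ Commute b vS := by
        intro b hb
        rcases hb with rfl | rfl | rfl | rfl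
        exacts [⟨Commute.one_left _, Commute.one_left _⟩, ⟨Commute.refl _, huvc⟩, ⟨huvc.symm, Commute.refl _⟩,
          ⟨(Commute.refl uS).mul_left huvc.symm, huvc.mul_left (Commute.refl vS)⟩]
      obtain ⟨h1, h2⟩ := hc y hy
      rcases hx with rfl | rfl | rfl | rfl
      exacts [(Commute.one_right y).eq, h1.eq, h2.eq, (h1.mul_right h2).eq])
  have hcl := Cfsg.Agent.S0112.result n hn A hAcard hAC
  obtain ⟨C, hC, hCi⟩ := Cfsg.Agent.S0113.result n hn3 hn hcl
  haveI := hC
  haveI : C.Normal := normal_of_index_eq_two hCi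
  letI : Fintype C := Fintype.ofFinite _
  have hone : ∀ a b : S, a ∈ C → b ∈ C → a * a = 1 → b * b = 1 → a ≠ 1 → b ≠ 1 → a = b := by
    intro a b ha hb haa hbb ha1 hb1
    by_contra hne
    have h := IsCyclic.card_pow_eq_one_le (α := C) (n := 2) two_pos
    have h3 : ({1, ⟨a, ha⟩, ⟨b, hb⟩} : Finset C) ⊆ Finset.univ.filter (fun x : C => x ^ 2 = 1) := by
      intro x hx
      simp only [Finset.mem_insert, Finset.mem_singleton] at hx
      refine Finset.mem_filter.2 ⟨Finset.mem_univ _, ?_⟩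
      rcases hx with rfl | rfl | rfl
      exacts [one_pow 2, Subtype.ext (by simpa [pow_two] using haa), Subtype.ext (by simpa [pow_two] using hbb)]
    have hc3 : ({1, ⟨a, ha⟩, ⟨b, hb⟩} : Finset C).card = 3 := Finset.card_eq_three.2
      ⟨_, _, _, fun e => ha1 (congrArg Subtype.val e).symm, fun e => hb1 (congrArg Subtype.val e).symm,
        fun e => hne (congrArg Subtype.val e), rfl⟩
    have := (Finset.card_le_card h3).trans h
    omega
  -- the central involution
  obtain ⟨e, heA, heC, he1⟩ : ∃ e : S, e ∈ A ∧ e ∈ C ∧ e ≠ 1 := by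
    by_contra hne
    push Not at hne
    have h1 : uS ∉ C := fun h => hu1 (hne uS (Or.inr (Or.inl rfl)) h)
    have h2 : vS ∉ C := fun h => hv1 (hne vS (Or.inr (Or.inr (Or.inl rfl))) h)
    have h3 : uS * vS ∈ C := (mul_mem_iff_of_index_two hCi).2 (iff_of_false h1 h2)
    have h4 := hne _ (Or.inr (Or.inr (Or.inr rfl))) h3
    exact huv (by rw [mul_eq_one_iff_eq_inv] at h4; rw [h4, inv_eq_of_mul_eq_one_right hvv])
  have hee : e * e = 1 := by
    rcases (hAmem e).1 heA with rfl | rfl | rfl | rfl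
    exacts [one_mul 1, huu, hvv, by rw [huvc.symm.mul_mul_mul_comm, huu, hvv, one_mul]]
  have hcentral : ∀ s : S, Commute s e := fun s => by
    have h1 : s * e * s⁻¹ ∈ C := (inferInstance : C.Normal).conj_mem e heC s
    have h2 := hone _ e h1 heC (by rw [conj_mul, hee, mul_one, mul_inv_cancel]) hee
      (fun h => he1 (conj_eq_one_iff.1 h)) he1
    exact mul_inv_eq_iff_eq_mul.1 h2
  have heu : e = uS := by
    obtain ⟨m1, m2, -⟩ := four_moved
    rcases (hAmem e).1 heA with h | h | h | h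
    · exact absurd h he1
    · exact h
    · have hh := hcentral sS
      rw [h] at hh
      have hh' : L.f s6 * L.f vL = L.f vL * L.f s6 := congrArg Subtype.val hh.eq
      exact (m1 (L.comm_f_iff.1 hh')).elim
    · refine absurd (L.f_inj ?_) m2
      rw [map_mul, map_mul, map_mul L.f (uL * vL), map_mul]
      exact congrArg Subtype.val (h ▸ hcentral sS).eq
  subst heu
  have hvC : vS ∉ C := fun h => huv (hone _ _ heC h huu hvv hu1 hv1)
  -- commutators with `v`
  have hconjC : ∀ c : C, vS * (c : S)⁻¹ * vS⁻¹ ∈ C := fun c =>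
    (inferInstance : C.Normal).conj_mem _ (inv_mem c.2) vS
  let ψ : C →* C :=
    { toFun := fun c => c * ⟨_, hconjC c⟩
      map_one' := Subtype.ext (by simp)
      map_mul' := fun a b => by
        have e : (⟨_, hconjC (a * b)⟩ : C) = ⟨_, hconjC b⟩ * ⟨_, hconjC a⟩ := Subtype.ext (by
          show vS * ((a : S) * b)⁻¹ * vS⁻¹ = vS * (b : S)⁻¹ * vS⁻¹ * (vS * (a : S)⁻¹ * vS⁻¹)
          group)
        show a * b * _ = _
        rw [e, mul_comm' (⟨_, hconjC b⟩ : C)]
        exact Commute.mul_mul_mul_comm (mul_comm' b _) a _ }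
  have hψ : ∀ c : C, ((ψ c : C) : S) = (c : S) * vS * (c : S)⁻¹ * vS⁻¹ := fun c => by
    show (c : S) * (vS * (c : S)⁻¹ * vS⁻¹) = _
    group
  have hker : ∀ c : C, c ∈ ψ.ker ↔ c = 1 ∨ (c : S) = uS := by
    intro c
    rw [MonoidHom.mem_ker, Subtype.ext_iff, hψ, OneMemClass.coe_one, mul_inv_eq_one, mul_inv_eq_iff_eq_mul]
    refine ⟨fun h => ?_, ?_⟩
    · rcases hcentS c (hcentral c) h with e | e | e | e
      · exact Or.inl (Subtype.ext e)
      · exact Or.inr e
      · exact absurd (e ▸ c.2) hvC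
      · exact absurd ((mul_mem_cancel_left heC).1 (e ▸ c.2)) hvC
    · rintro (rfl | h)
      · simp
      · rw [h, huvc.eq]
  let sq : C →* C :=
    { toFun := fun c => c * c
      map_one' := one_mul 1
      map_mul' := fun a b => Commute.mul_mul_mul_comm (mul_comm' b a) a b }
  have hkersq : ∀ c : C, c ∈ sq.ker ↔ c = 1 ∨ (c : S) = uS := by
    intro c
    show c * c = 1 ↔ _
    refine ⟨fun h => ?_, ?_⟩
    · by_cases hc : (c : S) = 1
      · exact Or.inl (Subtype.ext hc)
      · exact Or.inr (hone c uS c.2 heC (congrArg Subtype.val h) huu hc hu1)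
    · rintro (rfl | h)
      · exact one_mul 1
      · exact Subtype.ext (by show (c : S) * c = 1; rw [h, huu])
  have hkeq : sq.ker = ψ.ker := Subgroup.ext fun c => (hkersq c).trans (hker c).symm
  have hk2 : Nat.card sq.ker = 2 := by
    rw [Nat.card_eq_two_iff]
    refine ⟨1, ⟨⟨uS, heC⟩, (hkersq _).2 (Or.inr rfl)⟩, fun e => hu1 ?_, ?_⟩
    · exact (congrArg (fun x : sq.ker => ((x : C) : S)) e).symm
    · refine Set.eq_univ_of_forall fun c => ?_
      rcases (hkersq c).1 c.2 with e | e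
      · exact Or.inl (Subtype.ext e)
      · exact Or.inr (Set.mem_singleton_iff.2 (Subtype.ext (Subtype.ext e)))
  have hsqi : sq.range.index = 2 := by
    have h1 := sq.range.card_mul_index
    have h2 := sq.ker.card_mul_index
    rw [Subgroup.index_ker, hk2] at h2
    rw [← h2, mul_comm] at h1
    exact Nat.eq_of_mul_eq_mul_right Nat.card_pos h1
  have hrange : ψ.range = sq.range := by
    refine eq_of_le_of_card_ge ?_ (le_of_eq ?_)
    · rintro _ ⟨c, rfl⟩
      show c * _ ∈ sq.range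
      have hsq : ∀ a : C, a ∈ sq.range → ∀ ha : vS * (a : S) * vS⁻¹ ∈ C, (⟨_, ha⟩ : C) ∈ sq.range := by
        rintro _ ⟨b, rfl⟩ ha
        exact ⟨⟨_, (inferInstance : C.Normal).conj_mem _ b.2 vS⟩, Subtype.ext (by
          show vS * (b : S) * vS⁻¹ * (vS * (b : S) * vS⁻¹) = vS * ((b : S) * b) * vS⁻¹
          group)⟩
      rw [mul_mem_iff_of_index_two hsqi]
      refine ⟨fun h => hsq c⁻¹ (inv_mem h) _, fun h => ?_⟩
      obtain ⟨b, hb⟩ := h
      have hb' : (b : S) * b = vS * (c : S)⁻¹ * vS⁻¹ := congrArg Subtype.val hb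
      refine inv_mem_iff.1 ⟨⟨_, (inferInstance : C.Normal).conj_mem _ b.2 vS⁻¹⟩, Subtype.ext ?_⟩
      show vS⁻¹ * (b : S) * vS⁻¹⁻¹ * (vS⁻¹ * (b : S) * vS⁻¹⁻¹) = (c : S)⁻¹
      rw [conj_mul, hb']
      group
    · have h1 := ψ.ker.card_mul_index
      have h2 := sq.ker.card_mul_index
      rw [Subgroup.index_ker] at h1 h2
      rw [← hkeq, hk2] at h1
      rw [hk2] at h2
      omega
  -- the subgroup of index two
  let Q : Subgroup S := sq.range.map C.subtype
  have hQC : Q ≤ C := map_subtype_le _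
  have hQv : ∀ q ∈ Q, vS * q * vS⁻¹ ∈ Q := by
    rintro _ ⟨_, ⟨b, rfl⟩, rfl⟩
    exact ⟨_, ⟨⟨_, (inferInstance : C.Normal).conj_mem _ b.2 vS⟩, rfl⟩, (conj_mul ..)⟩
  have hvi : vS⁻¹ = vS := inv_eq_of_mul_eq_one_right hvv
  have hsplit : ∀ x : S, x ∈ Q ∨ x * vS ∈ Q → ∀ y : S, y ∈ Q ∨ y * vS ∈ Q → x * y ∈ Q ∨ x * y * vS ∈ Q := by
    intro x hx y hy
    rcases hx with hx | hx <;> rcases hy with hy | hy
    · exact Or.inl (mul_mem hx hy)
    · exact Or.inr (by rw [mul_assoc]; exact mul_mem hx hy)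
    · refine Or.inr ?_
      have := mul_mem hx (hQv y hy)
      rwa [hvi, show x * vS * (vS * y * vS) = x * (vS * vS) * y * vS by group, hvv, mul_one] at this
    · refine Or.inl ?_
      have := mul_mem hx (hQv _ hy)
      rwa [hvi, show x * vS * (vS * (y * vS) * vS) = x * (vS * vS) * y * (vS * vS) by group, hvv, mul_one,
        mul_one] at this
  let T : Subgroup S :=
    { carrier := {x | x ∈ Q ∨ x * vS ∈ Q}
      one_mem' := Or.inl (one_mem Q)
      mul_mem' := fun {a b} ha hb => hsplit a ha b hb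
      inv_mem' := fun {a} ha => by
        rcases ha with ha | ha
        · exact Or.inl (inv_mem ha)
        · refine Or.inr ?_
          have := hQv _ (inv_mem ha)
          rwa [mul_inv_rev, hvi, show vS * (vS * a⁻¹) * vS = (vS * vS) * a⁻¹ * vS by group, hvv, one_mul] at this }
  have hTmem : ∀ x : S, x ∈ T ↔ (x ∈ Q ∨ x * vS ∈ Q) := fun x => Iff.rfl
  have hTi : T.index = 2 := by
    have hQT : Q ≤ T := fun x hx => Or.inl hx
    have h1 : (Q.subgroupOf T).index = 2 := by
      rw [index_eq_two_iff]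
      refine ⟨⟨vS, Or.inr (by rw [hvv]; exact one_mem _)⟩, fun b => ?_⟩
      rw [mem_subgroupOf, mem_subgroupOf, coe_mul]
      rcases b.2 with hb | hb
      · refine Or.inr ⟨hb, fun h => hvC (hQC ?_)⟩
        exact (mul_mem_cancel_left hb).1 h
      · refine Or.inl ⟨hb, fun h => hvC (hQC ?_)⟩
        exact (mul_mem_cancel_left h).1 hb
    have h3 : Q.index = 4 := by rw [index_map_subtype, hsqi, hCi]
    have h2 : (Q.subgroupOf T).index * T.index = Q.index := relIndex_mul_index hQT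
    rw [h1, h3] at h2
    omega
  have hTinv : ∀ x : S, x ∈ T → x * x = 1 → x ≠ 1 → ∃ d : S, x = d * uS * d⁻¹ ∨ x = d * vS * d⁻¹ := by
    intro x hx hxx hx1
    rcases hx with hx | hx
    · exact ⟨1, Or.inl (by rw [hone x uS (hQC hx) heC hxx huu hx1 hu1]; group)⟩
    · obtain ⟨q, hq, hqx⟩ := hx
      obtain ⟨c, hc⟩ : q ∈ ψ.range := hrange ▸ hq
      refine ⟨c, Or.inr ?_⟩
      have h := congrArg Subtype.val hc
      rw [hψ, show (q : S) = x * vS from hqx, hvi] at h
      exact (mul_right_cancel h).symm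
  -- no conjugate of the outer involution lies in it
  obtain ⟨i0, hi0, hi0c, hi0D⟩ := L.exists_i0
  obtain ⟨kv, hkv⟩ : ∃ k : G, k * L.u * k⁻¹ = L.v := by
    rcases u_to_v with e | e
    · exact ⟨L.f wL, by rw [← map_inv, ← map_mul, ← map_mul, e]⟩
    · exact ⟨L.f wL⁻¹, by rw [← map_inv, ← map_mul, ← map_mul, e]⟩
  have hconjT : ∀ t : S, t ∈ T → orderOf (t : G) = 2 → ∃ h : G, (t : G) = h * L.u * h⁻¹ := by
    intro t ht hto
    obtain ⟨d, hd⟩ := hTinv t ht (Subtype.ext (by
      show (t : G) * t = 1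
      rw [← pow_two]
      exact orderOf_dvd_iff_pow_eq_one.1 hto.dvd)) (fun e => by rw [e] at hto; simp at hto)
    rcases hd with hd | hd
    · exact ⟨d, congrArg Subtype.val hd⟩
    · refine ⟨d * kv, ?_⟩
      have e : (t : G) = (d : G) * L.v * (d : G)⁻¹ := congrArg Subtype.val hd
      rw [e, ← hkv]
      group
  have hordconj : ∀ (g : G) (a : G), orderOf (g * a * g⁻¹) = orderOf a :=
    fun g a => MulEquiv.orderOf_eq (MulAut.conj g) a
  obtain ⟨M, hMn, hMi, hi0M⟩ := Cfsg.Lib.Transfer.exists_index_two_not_mem (T.map (S : Subgroup G).subtype)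
    (Nat.odd_iff.2 (Nat.two_dvd_ne_zero.1 S.not_dvd_index))
    (by rw [index_map_subtype, hTi]) hi0 (fun g hg => by
      obtain ⟨t, ht, e⟩ := hg
      have hto : orderOf (t : G) = 2 := by
        rw [show (t : G) = g⁻¹ * i0 * g from e, show g⁻¹ * i0 * g = g⁻¹ * i0 * g⁻¹⁻¹ by group, hordconj, hi0]
      obtain ⟨h, hh⟩ := hconjT t ht hto
      refine L.not_comm_zw (g * h) ?_
      rw [show g * h * L.u * (g * h)⁻¹ = g * (h * L.u * h⁻¹) * g⁻¹ by group, ← hh,
        show (t : G) = g⁻¹ * i0 * g from e, show g * (g⁻¹ * i0 * g) * g⁻¹ = i0 by group]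
      exact hi0c)
  haveI := hMn
  have hodd : ∀ x : G, ∀ k : ℕ, Odd k → x ^ k = 1 → x ∈ M := by
    intro x k hk hx
    by_contra hne
    obtain ⟨j, rfl⟩ := hk
    have h1 : x ^ (2 * j) ∈ M := by
      rw [pow_mul]; exact pow_mem ((pow_two x).symm ▸ mul_self_mem_of_index_two hMi x) j
    exact hne ((mul_mem_cancel_left h1).1 (by rw [← pow_succ, hx]; exact one_mem M))
  have heven : ∀ (φ : L0 →* G) (a : L0), a * zL = zL * a → φ a ∈ M := by
    intro φ a ha
    obtain ⟨p, -, hp3, hp15⟩ := even_prod a ha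
    have h1 : φ p ∈ M := hodd _ 3 ⟨1, rfl⟩ (by rw [← map_pow, pow_succ, pow_two, hp3, map_one])
    have h2 : φ (p * a) ∈ M := hodd _ 15 ⟨7, rfl⟩ (by rw [← map_pow, hp15, map_one])
    rw [map_mul] at h2
    exact (mul_mem_cancel_left h1).1 h2
  have hs3M : L.f s3 ∈ M := L.gr ▸ heven L.g rL (by decide +kernel)
  have hfM : ∀ a : L0, L.f a ∈ M := by
    intro a
    rcases two_cosets a with h | h
    · exact heven L.f a h
    · have h1 := heven L.f _ h
      rw [map_mul] at h1
      exact (mul_mem_cancel_right hs3M).1 h1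
  have hTM : ∀ t : S, t ∈ T → (t : G) ∈ M := by
    have hQM : ∀ q : S, q ∈ Q → (q : G) ∈ M := by
      rintro _ ⟨_, ⟨b, rfl⟩, rfl⟩
      exact mul_self_mem_of_index_two hMi ((b : S) : G)
    intro t ht
    rcases ht with ht | ht
    · exact hQM t ht
    · exact (mul_mem_cancel_right (hfM vL)).1 (hQM _ ht)
  -- an element of the Sylow subgroup outside `M`
  obtain ⟨g1, hg1⟩ := Cfsg.Lib.InvolCalc.exists_conj_le S (H := zpowers i0)
    (IsPGroup.iff_card.2 ⟨1, by rw [Nat.card_zpowers, hi0, pow_one]⟩)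
  let j : S := ⟨g1⁻¹ * i0 * g1, hg1 _ (mem_zpowers i0)⟩
  have hjM : (j : G) ∉ M := fun h => hi0M (by
    have := hMn.conj_mem _ h g1
    rwa [show g1 * (j : G) * g1⁻¹ = i0 by show g1 * (g1⁻¹ * i0 * g1) * g1⁻¹ = i0; group] at this)
  have hSM : ∀ s : S, (s : G) ∈ M → s ∈ T := by
    intro s hs
    by_contra hsT
    have h1 : j ∉ T := fun h => hjM (hTM j h)
    have h2 := hTM _ ((mul_mem_iff_of_index_two hTi).2 (iff_of_false h1 hsT))
    exact hjM ((mul_mem_cancel_right hs).1 h2)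
  -- the common involution is conjugate to `u` inside `M`
  have ha3 : orderOf (L.f s3) = 2 := by
    rw [orderOf_injective L.f L.f_inj]
    exact orderOf_eq_prime (by decide +kernel) (by decide +kernel)
  obtain ⟨g2, hg2⟩ := Cfsg.Lib.InvolCalc.exists_conj_le S (H := zpowers (L.f s3))
    (IsPGroup.iff_card.2 ⟨1, by rw [Nat.card_zpowers, ha3, pow_one]⟩)
  obtain ⟨h0, hh0⟩ := hconjT ⟨_, hg2 _ (mem_zpowers _)⟩ (hSM _ (by
      have := hMn.conj_mem _ hs3M g2⁻¹
      rwa [inv_inv] at this))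
    (by show orderOf (g2⁻¹ * L.f s3 * g2) = 2; rw [show g2⁻¹ * L.f s3 * g2 = g2⁻¹ * L.f s3 * g2⁻¹⁻¹ by group, hordconj, ha3])
  obtain ⟨h, hhM, hh⟩ : ∃ h ∈ M, L.f s3 = h * L.u * h⁻¹ := by
    have e : L.f s3 = g2 * h0 * L.u * (g2 * h0)⁻¹ := by
      rw [show g2 * h0 * L.u * (g2 * h0)⁻¹ = g2 * (h0 * L.u * h0⁻¹) * g2⁻¹ by group, ← hh0]
      show L.f s3 = g2 * (g2⁻¹ * L.f s3 * g2) * g2⁻¹
      group
    by_cases hm : g2 * h0 ∈ M
    · exact ⟨_, hm, e⟩
    · refine ⟨g2 * h0 * j, (mul_mem_iff_of_index_two hMi).2 (iff_of_false hm hjM), ?_⟩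
      have hju : (j : G) * L.u = L.u * j := congrArg Subtype.val (hcentral j).eq
      calc L.f s3 = g2 * h0 * L.u * (g2 * h0)⁻¹ := e
        _ = g2 * h0 * (L.u * (j : G) * (j : G)⁻¹) * (g2 * h0)⁻¹ := by group
        _ = _ := by rw [← hju]; group
  set q := h⁻¹ * L.w * h with hq
  have hqu : Commute q L.u := by
    have hc : L.w * L.f s3 = L.f s3 * L.w := (L.comm_f (by decide +kernel)).eq
    rw [hh] at hc
    show q * L.u = L.u * q
    calc q * L.u = h⁻¹ * (L.w * (h * L.u * h⁻¹)) * h := by rw [hq]; group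
      _ = _ := by rw [hc, hq]; group
  have hwc : L.w ^ 3 = 1 ∧ L.w ≠ 1 := ⟨L.D_exp (mem_map_of_mem L.f wL_mem),
    fun e => hfne wL 1 (by decide +kernel) (e.trans L.f.map_one.symm)⟩
  obtain ⟨k, hk, hkq⟩ := L.conj_z_in (M ⊓ centralizer ({L.u} : Set G))
    (mem_inf.2 ⟨hfM zL, mem_centralizer_singleton_iff.2 (L.comm_f (by decide +kernel)).eq⟩)
    (fun x hx => mem_centralizer_singleton_iff.1 (mem_inf.1 hx).2) (q := q)
    (mem_inf.2 ⟨mul_mem (mul_mem (inv_mem hhM) (hfM wL)) hhM, mem_centralizer_singleton_iff.2 hqu.eq⟩)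
    (by rw [hq, show h⁻¹ * L.w * h = h⁻¹ * L.w * h⁻¹⁻¹ by group, conj_pow, hwc.1]; group)
    (by rw [hq, show h⁻¹ * L.w * h = h⁻¹ * L.w * h⁻¹⁻¹ by group, Ne, conj_eq_one_iff]; exact hwc.2)
  set m := k * h⁻¹ with hm
  have hmM : m ∈ M := mul_mem (mem_inf.1 hk).1 (inv_mem hhM)
  have hmw : m * L.w * m⁻¹ = L.z ∨ m * L.w * m⁻¹ = L.z⁻¹ := by
    rw [show m * L.w * m⁻¹ = k * q * k⁻¹ by rw [hm, hq]; group]
    exact hkq
  have hrange : ∀ x : G, x * L.z * x⁻¹ = L.z ∨ x * L.z * x⁻¹ = L.z⁻¹ → x ∈ M := fun x hx => by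
    obtain ⟨a, rfl⟩ := L.f_norm x hx
    exact hfM a
  obtain ⟨t, ht, hti⟩ := hi0D _ (mem_map_of_mem L.f zL_mem)
  have hcz := card_cent_first L.f_inj
  by_cases hl : t = zL ∨ t = zL⁻¹
  · refine hi0M (hrange i0 ?_)
    rcases hl with e | e <;> rw [e] at hti
    · exact Or.inl hti.symm
    · exact Or.inr (hti.symm.trans (map_inv _ _))
  by_cases hl2 : t = wL ∨ t = wL⁻¹
  · refine hi0M ((mul_mem_cancel_left hmM).1 (hrange _ ?_))
    rw [show m * i0 * L.z * (m * i0)⁻¹ = m * (i0 * L.z * i0⁻¹) * m⁻¹ by group, ← hti]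
    rcases hl2 with e | e <;> rw [e]
    · exact hmw
    · rw [map_inv, show m * (L.f wL)⁻¹ * m⁻¹ = (m * L.w * m⁻¹)⁻¹ by group]
      rcases hmw with e' | e' <;> rw [e']
      · exact Or.inr rfl
      · exact Or.inl (inv_inv _)
  push Not at hl hl2
  have h18 := L.card_off ht (fun e => hfne zL 1 (by decide +kernel) (by
    rw [e, map_one, eq_comm, conj_eq_one_iff] at hti
    rw [hti, map_one])) hl.1 hl.2 hl2.1 hl2.2
  rw [hti, card_cent_conj] at h18
  omega

end Loc

end Cfsg.Lib.AltEightLocal
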