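import Cfsg.Agent.LocalThree.AltEightLocal.Setup
import Cfsg.Agent.Coprime.Generation
import Mathlib.GroupTheory.Transfer
import Mathlib.GroupTheory.Perm.Cycle.Type

/-!
The centraliser of a four-group inside the centraliser of a three-element.
-/

set_option autoImplicit false
set_option synthInstance.maxSize 4096
set_option maxRecDepth 100000
set_option maxHeartbeats 1000000

namespace Cfsg.Lib.AltEightLocal

open Equiv Subgroup

universe u

theorem cube_comm_u : ∀ x : L0, x * zL = zL * x → x * uL = uL * x → x ^ 9 = 1 →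
    x = 1 ∨ x = zL ∨ x = zL⁻¹ := by decide +kernel

theorem torus_four : ∀ t ∈ torus, (t * uL * t⁻¹ = uL ∨ t * uL * t⁻¹ = vL ∨ t * uL * t⁻¹ = uL * vL) ∧
    (t * vL * t⁻¹ = uL ∨ t * vL * t⁻¹ = vL ∨ t * vL * t⁻¹ = uL * vL) := by decide +kernel

namespace Loc

variable {G : Type u} [Group G] (L : Loc G)

/-- The first three-element. -/
abbrev z : G := L.f zL
/-- The second three-element. -/
abbrev w : G := L.f wL
/-- The first involution of the four-group. -/
abbrev u : G := L.f uL
/-- The second involution of the four-group. -/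
abbrev v : G := L.f vL

/-- The centraliser of the four-group. -/
def four : Subgroup G := centralizer ({L.u} : Set G) ⊓ centralizer ({L.v} : Set G)

theorem mem_four {x : G} : x ∈ L.four ↔ Commute x L.u ∧ Commute x L.v := by
  rw [four, mem_inf, mem_centralizer_singleton_iff, mem_centralizer_singleton_iff]
  rfl

theorem comm_f {a b : L0} (h : a * b = b * a) : Commute (L.f a) (L.f b) := by
  show L.f a * L.f b = L.f b * L.f a
  rw [← map_mul, h, map_mul]

theorem comm_f_iff {a b : L0} : Commute (L.f a) (L.f b) ↔ a * b = b * a :=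
  ⟨fun h => L.f_inj (by rw [map_mul, map_mul]; exact h), L.comm_f⟩

/-- The centraliser of the first three-element. -/
theorem cent_z {x : G} (h : Commute x L.z) : ∃ a : L0, L.f a = x ∧ a * zL = zL * a := by
  obtain ⟨a, ha⟩ := L.f_norm x (Or.inl (mul_inv_eq_iff_eq_mul.2 h.eq))
  exact ⟨a, ha, L.comm_f_iff.1 (ha ▸ h)⟩

/-- The Sylow subgroup. -/
def D : Subgroup G := torusGrp.map L.f

theorem card_D : Nat.card L.D = 9 := by rw [D, card_map_of_injective L.f_inj, card_torusGrp]

theorem D_comm : IsMulCommutative L.D := ⟨⟨fun a b => by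
  obtain ⟨a', ha, ea⟩ := a.2
  obtain ⟨b', hb, eb⟩ := b.2
  refine Subtype.ext ?_
  show (a : G) * b = b * a
  rw [← ea, ← eb, ← map_mul, ← map_mul]
  have h : ∀ s ∈ torus, ∀ t ∈ torus, s * t = t * s := by decide +kernel
  rw [h a' (mem_torusGrp.1 ha) b' (mem_torusGrp.1 hb)]⟩⟩

theorem D_exp {d : G} (hd : d ∈ L.D) : d ^ 3 = 1 := by
  obtain ⟨t, ht, rfl⟩ := hd
  have h : ∀ t ∈ torus, t ^ 3 = 1 := by decide +kernel
  rw [← map_pow, h t (mem_torusGrp.1 ht), map_one]

theorem D_not_cyclic : ¬ IsCyclic L.D := by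
  rintro ⟨⟨a, ha⟩⟩
  have h1 : orderOf a ∣ 3 := orderOf_dvd_of_pow_eq_one (Subtype.ext (L.D_exp a.2))
  have h2 := (orderOf_eq_card_of_forall_mem_zpowers ha).trans L.card_D
  rw [h2] at h1
  norm_num at h1

theorem card_conj (x a : G) : Nat.card (centralizer ({x * a * x⁻¹} : Set G)) = Nat.card (centralizer ({a} : Set G)) :=
  card_cent_conj x a

/-- A line in general position has centraliser of order eighteen. -/
theorem card_off {t : L0} (ht : t ∈ torusGrp) (h0 : t ≠ 1) (h1 : t ≠ zL) (h2 : t ≠ zL⁻¹) (h3 : t ≠ wL)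
    (h4 : t ≠ wL⁻¹) : Nat.card (centralizer ({L.f t} : Set G)) = 18 := by
  rcases off_lines t ht h0 h1 h2 h3 h4 with e | e | e | e <;> rw [e]
  · exact L.card_zw
  · rw [map_inv, card_cent_inv, L.card_zw]
  · rw [map_mul, map_mul, map_inv, card_cent_conj, L.card_zw]
  · rw [map_inv, card_cent_inv, map_mul, map_mul, map_inv, card_cent_conj, L.card_zw]

variable [Finite G]

include L in
theorem card_pgroup (P : Subgroup G) (hP : IsPGroup 3 P) : Nat.card P ∣ 9 := by
  haveI : Fact (Nat.Prime 3) := ⟨Nat.prime_three⟩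
  obtain ⟨k, hk⟩ := IsPGroup.iff_card.1 hP
  rw [hk, show (9 : ℕ) = 3 ^ 2 from rfl]
  refine pow_dvd_pow 3 ?_
  by_contra h
  exact L.not27 (((pow_dvd_pow 3 (show 3 ≤ k by omega))).trans (hk ▸ card_subgroup_dvd_card P))

/-- In a group centralising `u` every element of order three is conjugate to `z` or its inverse. -/
theorem conj_z_in (K : Subgroup G) (hzK : L.z ∈ K) (hKu : ∀ k ∈ K, Commute k L.u) {q : G} (hq : q ∈ K)
    (hq3 : q ^ 3 = 1) (hq1 : q ≠ 1) : ∃ k ∈ K, k * q * k⁻¹ = L.z ∨ k * q * k⁻¹ = L.z⁻¹ := by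
  haveI : Fact (Nat.Prime 3) := ⟨Nat.prime_three⟩
  let zK : K := ⟨L.z, hzK⟩
  let qK : K := ⟨q, hq⟩
  have hz3 : zK ^ (3 ^ 1) = 1 := Subtype.ext (by
    show L.f zL ^ 3 = 1
    exact L.D_exp (mem_map_of_mem L.f zL_mem))
  obtain ⟨P, hP⟩ := (show IsPGroup 3 (zpowers zK) from IsPGroup.iff_card.2
    (by
      obtain ⟨j, -, hj⟩ := (Nat.dvd_prime_pow Nat.prime_three).1 (orderOf_dvd_of_pow_eq_one hz3)
      exact ⟨j, by rw [Nat.card_zpowers, hj]⟩)).exists_le_sylow
  have hPG : IsPGroup 3 ((P : Subgroup K).map K.subtype) := P.isPGroup'.map _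
  have hcard := L.card_pgroup _ hPG
  have hPz : ∀ a ∈ (P : Subgroup K), (a : G) = 1 ∨ (a : G) = L.z ∨ (a : G) = L.z⁻¹ := by
    intro a ha
    have hab : Commute (a : G) L.z := by
      haveI : IsMulCommutative (P : Subgroup K) := by
        obtain ⟨n, hn⟩ := IsPGroup.iff_card.1 P.isPGroup'
        rw [card_map_of_injective K.subtype_injective, hn, show (9 : ℕ) = 3 ^ 2 from rfl,
          Nat.pow_dvd_pow_iff_le_right (by norm_num)] at hcard
        interval_cases n
        · haveI : Subsingleton (P : Subgroup K) := (Nat.card_eq_one_iff_unique.1 (by rw [hn]; rfl)).1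
          exact ⟨⟨fun x y => Subsingleton.elim _ _⟩⟩
        · haveI : IsCyclic (P : Subgroup K) := isCyclic_of_prime_card (by rw [hn, pow_one])
          exact IsCyclic.commutative
        · exact IsPGroup.isMulCommutative_of_card_eq_prime_sq (p := 3) hn
      exact congrArg (fun e : (P : Subgroup K) => ((e : K) : G))
        (mul_comm' (⟨a, ha⟩ : (P : Subgroup K)) ⟨zK, hP (mem_zpowers _)⟩)
    obtain ⟨x, hx, hxz⟩ := L.cent_z hab
    have h9 : (a : G) ^ 9 = 1 := by
      have h := orderOf_dvd_natCard (⟨(a : G), mem_map_of_mem _ ha⟩ : (P : Subgroup K).map K.subtype)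
      exact congrArg Subtype.val (orderOf_dvd_iff_pow_eq_one.1 (h.trans hcard))
    have hxu : x * uL = uL * x := L.comm_f_iff.1 (hx ▸ hKu _ a.2)
    rcases cube_comm_u x hxz hxu (L.f_inj (by rw [map_pow, hx, h9, map_one])) with e | e | e
    · exact Or.inl (by rw [← hx, e, map_one])
    · exact Or.inr (Or.inl (by rw [← hx, e]))
    · exact Or.inr (Or.inr (by rw [← hx, e, map_inv]))
  obtain ⟨Q, hQ⟩ := (show IsPGroup 3 (zpowers qK) from IsPGroup.iff_card.2
    (by
      obtain ⟨j, -, hj⟩ := (Nat.dvd_prime_pow Nat.prime_three).1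
        (orderOf_dvd_of_pow_eq_one (show qK ^ (3 ^ 1) = 1 from Subtype.ext hq3))
      exact ⟨j, by rw [Nat.card_zpowers, hj]⟩)).exists_le_sylow
  obtain ⟨k, hk⟩ := MulAction.exists_smul_eq K Q P
  have hm : k * qK * k⁻¹ ∈ (P : Subgroup K) := by
    rw [← hk]
    exact ⟨qK, hQ (mem_zpowers _), rfl⟩
  refine ⟨k, k.2, ?_⟩
  rcases hPz _ hm with e | e | e
  · exact absurd (conj_eq_one_iff.1 e) hq1
  · exact Or.inl e
  · exact Or.inr e

/-- No conjugate of `u` centralises the product of the two three-elements. -/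
theorem not_comm_zw (x : G) : ¬ Commute (x * L.u * x⁻¹) (L.f (zL * wL)) := by
  intro h
  set q := x⁻¹ * L.f (zL * wL) * x with hq
  have hqu : Commute q L.u := by
    show q * L.u = L.u * q
    rw [hq, show x⁻¹ * L.f (zL * wL) * x * L.u = x⁻¹ * (L.f (zL * wL) * (x * L.u * x⁻¹)) * x by group, h.symm.eq]
    group
  have hzw : (zL * wL) ^ 3 = 1 ∧ zL * wL ≠ 1 := by decide +kernel
  obtain ⟨k, -, hk⟩ := L.conj_z_in (centralizer ({L.u} : Set G))
    (mem_centralizer_singleton_iff.2 (L.comm_f (by decide +kernel)).eq)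
    (fun k hk => mem_centralizer_singleton_iff.1 hk) (q := q) (mem_centralizer_singleton_iff.2 hqu.eq)
    (by rw [hq, show x⁻¹ * L.f (zL * wL) * x = x⁻¹ * L.f (zL * wL) * x⁻¹⁻¹ by group, conj_pow, ← map_pow, hzw.1]; simp)
    (by
      rw [hq, show x⁻¹ * L.f (zL * wL) * x = x⁻¹ * L.f (zL * wL) * x⁻¹⁻¹ by group, Ne, conj_eq_one_iff]
      exact fun e => hzw.2 (L.f_inj (e.trans L.f.map_one.symm)))
  have h1 : Nat.card (centralizer ({k * q * k⁻¹} : Set G)) = 18 := by
    rw [card_cent_conj, hq, show x⁻¹ * L.f (zL * wL) * x = x⁻¹ * L.f (zL * wL) * x⁻¹⁻¹ by group, card_cent_conj,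
      L.card_zw]
  have h2 : 18 < Nat.card (centralizer ({L.z} : Set G)) := card_cent_first L.f_inj
  rcases hk with e | e <;> rw [e] at h1
  · omega
  · rw [card_cent_inv] at h1; omega

/-- An involution centralising the product of the two three-elements. -/
theorem exists_i0 : ∃ i0 : G, orderOf i0 = 2 ∧ Commute i0 (L.f (zL * wL)) ∧
    ∀ d ∈ L.D, i0 * d * i0⁻¹ ∈ L.D := by
  haveI : Fact (Nat.Prime 2) := ⟨Nat.prime_two⟩
  set C := centralizer ({L.f (zL * wL)} : Set G) with hC
  obtain ⟨c, hc⟩ := exists_prime_orderOf_dvd_card' (G := C) 2 (by rw [L.card_zw]; norm_num)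
  have hDC : L.D ≤ C := fun d hd => mem_centralizer_singleton_iff.2 (by
    obtain ⟨t, ht, rfl⟩ := hd
    have h : ∀ t ∈ torus, t * (zL * wL) = zL * wL * t := by decide +kernel
    exact (L.comm_f (h t (mem_torusGrp.1 ht))).eq)
  have hn : (L.D.subgroupOf C).Normal := by
    refine normal_of_index_eq_two ?_
    have h := (L.D.subgroupOf C).card_mul_index
    rw [Nat.card_congr (subgroupOfEquivOfLe hDC).toEquiv, L.card_D, L.card_zw] at h
    omega
  refine ⟨c, by rw [orderOf_coe, hc], mem_centralizer_singleton_iff.1 c.2, fun d hd => ?_⟩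
  exact hn.conj_mem (⟨d, hDC hd⟩ : C) hd c

theorem torus_conj_four {t : L0} (ht : t ∈ torusGrp) {x : G} (hx : x ∈ L.four) :
    L.f t * x * (L.f t)⁻¹ ∈ L.four := by
  rw [L.mem_four] at hx ⊢
  have h : ∀ a : L0, (a = uL ∨ a = vL ∨ a = uL * vL) → Commute x (L.f a) := by
    rintro a (rfl | rfl | rfl)
    exacts [hx.1, hx.2, by rw [map_mul]; exact hx.1.mul_right hx.2]
  have key : ∀ a : L0, Commute x (L.f (t⁻¹ * a * t)) → Commute (L.f t * x * (L.f t)⁻¹) (L.f a) := by
    intro a ha
    show L.f t * x * (L.f t)⁻¹ * L.f a = L.f a * (L.f t * x * (L.f t)⁻¹)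
    calc L.f t * x * (L.f t)⁻¹ * L.f a = L.f t * (x * L.f (t⁻¹ * a * t)) * (L.f t)⁻¹ := by
          rw [map_mul, map_mul, map_inv]; group
      _ = _ := by rw [ha.eq, map_mul, map_mul, map_inv]; group
  obtain ⟨h1, h2⟩ := torus_four t⁻¹ (mem_torusGrp.1 (inv_mem ht))
  rw [inv_inv] at h1 h2
  exact ⟨key _ (h _ h1), key _ (h _ h2)⟩

/-- The centraliser of the four-group has a normal complement to `⟨z⟩`. -/
theorem exists_complement : ∃ K : Subgroup G, K ≤ L.four ∧ (∀ x ∈ L.four, ∃ k ∈ K, ∃ j : ℕ, x = k * L.z ^ j) ∧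
    (Nat.card L.D).Coprime (Nat.card K) ∧ L.D ≤ normalizer (K : Set G) := by
  haveI : Fact (Nat.Prime 3) := ⟨Nat.prime_three⟩
  have hz : L.z ∈ L.four := L.mem_four.2 ⟨L.comm_f (by decide +kernel), L.comm_f (by decide +kernel)⟩
  let zX : L.four := ⟨L.z, hz⟩
  have hz3 : zX ^ 3 = 1 := Subtype.ext (L.D_exp (mem_map_of_mem L.f zL_mem))
  have hz1 : zX ≠ 1 := fun h => absurd (L.f_inj ((congrArg Subtype.val h).trans L.f.map_one.symm))
    (by decide +kernel)
  have hord : orderOf zX = 3 := orderOf_eq_prime hz3 hz1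
  -- the Sylow subgroup is the cyclic group
  have hsyl : ∀ P : Subgroup L.four, IsPGroup 3 P → zpowers zX ≤ P → P = zpowers zX := by
    intro P hP hle
    refine le_antisymm (fun a ha => ?_) hle
    let A := P.map L.four.subtype
    have hA := L.card_pgroup A (hP.map _)
    obtain ⟨n, hn⟩ := IsPGroup.iff_card.1 hP
    have hab : Commute (a : G) L.z := by
      rw [card_map_of_injective L.four.subtype_injective, hn, show (9 : ℕ) = 3 ^ 2 from rfl,
        Nat.pow_dvd_pow_iff_le_right (by norm_num)] at hA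
      haveI : IsMulCommutative P := by
        interval_cases n
        · haveI : Subsingleton P := (Nat.card_eq_one_iff_unique.1 (by rw [hn]; rfl)).1
          exact ⟨⟨fun x y => Subsingleton.elim _ _⟩⟩
        · haveI : IsCyclic P := isCyclic_of_prime_card (by rw [hn, pow_one])
          exact IsCyclic.commutative
        · exact IsPGroup.isMulCommutative_of_card_eq_prime_sq (p := 3) hn
      exact congrArg (fun e : P => ((e : L.four) : G)) (mul_comm' (⟨a, ha⟩ : P) ⟨zX, hle (mem_zpowers _)⟩)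
    obtain ⟨x, hx, hxz⟩ := L.cent_z hab
    have h9 : (a : G) ^ 9 = 1 := by
      have h := orderOf_dvd_natCard (⟨(a : G), mem_map_of_mem _ ha⟩ : A)
      exact congrArg Subtype.val (orderOf_dvd_iff_pow_eq_one.1 (h.trans (L.card_pgroup A (hP.map _))))
    rcases cube_comm_u x hxz (L.comm_f_iff.1 (hx ▸ (L.mem_four.1 a.2).1))
      (L.f_inj (by rw [map_pow, hx, h9, map_one])) with e | e | e
    · rw [show a = 1 from Subtype.ext (by rw [← hx, e, map_one]; rfl)]; exact one_mem _
    · rw [show a = zX from Subtype.ext (by rw [← hx, e])]; exact mem_zpowers _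
    · rw [show a = zX⁻¹ from Subtype.ext (by rw [← hx, e, map_inv]; rfl)]; exact inv_mem (mem_zpowers _)
  have hzp : IsPGroup 3 (zpowers zX) := IsPGroup.iff_card.2 ⟨1, by rw [Nat.card_zpowers, hord, pow_one]⟩
  obtain ⟨P, hP⟩ := hzp.exists_le_sylow
  have hPz := hsyl P P.isPGroup' hP
  have hN : normalizer ((P : Subgroup L.four) : Set L.four) ≤ centralizer ((P : Subgroup L.four) : Set L.four) := by
    intro a ha
    rw [hPz] at ha ⊢
    have h1 := (mem_normalizer_iff.1 ha zX).1 (mem_zpowers _)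
    classical
    rw [mem_zpowers_iff_mem_range_orderOf, hord] at h1
    simp only [Finset.mem_image, Finset.mem_range] at h1
    obtain ⟨j, hj, hjz⟩ := h1
    obtain ⟨x, hx⟩ := L.f_norm (a : G) (by
      have e := congrArg Subtype.val hjz
      interval_cases j
      · exact absurd (conj_eq_one_iff.1 (hjz.symm.trans (pow_zero _))) hz1
      · exact Or.inl (by rw [pow_one] at e; exact e.symm)
      · refine Or.inr ?_
        rw [show ((L.f zL)⁻¹ : G) = L.f zL ^ 2 from inv_eq_of_mul_eq_one_right (by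
          rw [← pow_succ']; exact L.D_exp (mem_map_of_mem L.f zL_mem))]
        exact e.symm)
    obtain ⟨h3, h4⟩ := L.mem_four.1 a.2
    have hcz : Commute (a : G) L.z := hx ▸ L.comm_f (cent_four_z x (L.comm_f_iff.1 (hx ▸ h3)) (L.comm_f_iff.1 (hx ▸ h4)))
    rw [mem_centralizer_iff]
    intro b hb
    obtain ⟨m, rfl⟩ := mem_zpowers_iff.1 hb
    exact ((show Commute a zX from Subtype.ext hcz.eq).zpow_right m).eq.symm
  set K := (MonoidHom.transferSylow P hN).ker with hK
  have hcompl : K.IsComplement' (P : Subgroup L.four) := MonoidHom.ker_transferSylow_isComplement' P hN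
  have hPc : Nat.card (P : Subgroup L.four) = 3 := by rw [hPz, Nat.card_zpowers, hord]
  have hKc : ¬ 3 ∣ Nat.card K := by
    have h := P.not_dvd_index
    rwa [hcompl.index_eq_card] at h
  haveI : K.Normal := (MonoidHom.transferSylow P hN).normal_ker
  have hKmem : ∀ x : L.four, x ∈ K ↔ ¬ 3 ∣ orderOf x := by
    intro x
    refine ⟨fun h h3 => hKc (h3.trans (orderOf_dvd_natCard K h)), fun h => ?_⟩
    have h1 := orderOf_map_dvd (MonoidHom.transferSylow P hN) x
    have h2 := orderOf_dvd_natCard (MonoidHom.transferSylow P hN x)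
    rw [hPc] at h2
    rw [hK, MonoidHom.mem_ker, ← orderOf_eq_one_iff]
    exact (Nat.dvd_prime Nat.prime_three).1 h2 |>.resolve_right fun e => h (e ▸ h1)
  refine ⟨K.map L.four.subtype, map_subtype_le _, fun x hx => ?_, ?_, ?_⟩
  · obtain ⟨⟨k, p⟩, hkp, -⟩ := isComplement_iff_existsUnique.1 hcompl ⟨x, hx⟩
    obtain ⟨m, hm⟩ : ∃ m : ℕ, zX ^ m = (p : L.four) := by
      have hp : (p : L.four) ∈ (P : Subgroup L.four) := p.2
      have := hPz.le hp
      exact (Submonoid.mem_powers_iff _ _).1 ((IsOfFinOrder.mem_powers_iff_mem_zpowers (isOfFinOrder_of_finite _)).2 this)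
    refine ⟨k, mem_map_of_mem _ k.2, m, ?_⟩
    calc x = ((k : L.four) * (p : L.four) : L.four) := (congrArg Subtype.val hkp).symm
      _ = _ := by rw [← hm]; rfl
  · rw [L.card_D, card_map_of_injective L.four.subtype_injective, show (9 : ℕ) = 3 ^ 2 from rfl]
    exact ((Nat.Prime.coprime_iff_not_dvd Nat.prime_three).2 hKc).pow_left 2
  · intro d hd
    have key : ∀ d ∈ L.D, ∀ a ∈ K.map L.four.subtype, d * a * d⁻¹ ∈ K.map L.four.subtype := by
      rintro _ ⟨t, ht, rfl⟩ _ ⟨a, ha, rfl⟩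
      refine ⟨⟨_, L.torus_conj_four ht a.2⟩, (hKmem _).2 ?_, rfl⟩
      have h : orderOf (L.f t * (a : G) * (L.f t)⁻¹) = orderOf (a : G) := MulEquiv.orderOf_eq (MulAut.conj (L.f t)) _
      rw [orderOf_mk, h, orderOf_coe]
      exact (hKmem a).1 ha
    rw [mem_normalizer_iff]
    intro a
    refine ⟨key d hd a, fun h => ?_⟩
    have := key d⁻¹ (inv_mem hd) _ h
    rwa [show d⁻¹ * (d * a * d⁻¹) * d⁻¹⁻¹ = a by group] at this

/-- If the centralisers of the elements of the torus lie in `H`, so does that of the four-group. -/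
theorem four_le (H : Subgroup G) (hH : ∀ t ∈ torusGrp, t ≠ 1 → centralizer ({L.f t} : Set G) ≤ H) :
    L.four ≤ H := by
  obtain ⟨K, hK, hdec, hcop, hnorm⟩ := L.exists_complement
  haveI := L.D_comm
  have hKH : K ≤ H := by
    rw [← Cfsg.Lib.Coprime.centralizerJoin_eq L.D_not_cyclic hnorm hcop]
    refine iSup₂_le fun a ha => ?_
    obtain ⟨⟨t, ht, rfl⟩, ha1⟩ := (show a ∈ L.D ∧ a ≠ 1 from ha)
    exact inf_le_right.trans (hH t ht fun e => ha1 (by rw [e, map_one]))
  intro x hx
  obtain ⟨k, hk, j, rfl⟩ := hdec x hx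
  exact mul_mem (hKH hk) (pow_mem (hH zL zL_mem (by decide +kernel) (mem_centralizer_singleton_iff.2 rfl)) j)

/-- If nothing beyond `z` centralises the four-group and `w`, the centraliser of the four-group commutes with `z`. -/
theorem four_small (h : ∀ x ∈ L.four, Commute x L.w → x = 1 ∨ x = L.z ∨ x = L.z⁻¹) :
    ∀ x ∈ L.four, Commute x L.z := by
  obtain ⟨K, hK, hdec, hcop, hnorm⟩ := L.exists_complement
  haveI := L.D_comm
  have hKz : K ≤ centralizer ({L.z} : Set G) := by
    rw [← Cfsg.Lib.Coprime.centralizerJoin_eq L.D_not_cyclic hnorm hcop]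
    refine iSup₂_le fun a ha => ?_
    obtain ⟨⟨t, ht, rfl⟩, ha1⟩ := (show a ∈ L.D ∧ a ≠ 1 from ha)
    intro c hc
    obtain ⟨hcK, hct⟩ := mem_inf.1 hc
    rw [mem_centralizer_singleton_iff] at hct ⊢
    have hwcase : Commute c L.w → c * L.z = L.z * c := fun hw => by
      rcases h c (hK hcK) hw with e | e | e <;> rw [e] <;> group
    by_cases h1 : t = zL
    · rw [h1] at hct; exact hct
    by_cases h2 : t = zL⁻¹
    · rw [h2, map_inv] at hct; exact (Commute.inv_right_iff.1 (hct : Commute c _)).eq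
    by_cases h3 : t = wL
    · rw [h3] at hct; exact hwcase hct
    by_cases h4 : t = wL⁻¹
    · rw [h4, map_inv] at hct; exact hwcase (Commute.inv_right_iff.1 (hct : Commute c _))
    -- a line in general position
    set C := centralizer ({L.f t} : Set G) with hC
    have hc18 : Nat.card C = 18 := L.card_off ht (fun e => ha1 (by rw [e, map_one])) h1 h2 h3 h4
    set M := K ⊓ C with hM
    have hMc : Nat.card M ∣ 2 := by
      have e1 : Nat.card M ∣ 18 := hc18 ▸ card_dvd_of_le inf_le_right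
      have e2 : (Nat.card M).Coprime 9 := by
        rw [← L.card_D]
        exact (hcop.coprime_dvd_right (card_dvd_of_le inf_le_left)).symm
      exact e2.dvd_of_dvd_mul_right (show Nat.card M ∣ 2 * 9 from e1)
    by_cases hc1 : c = 1
    · rw [hc1]; group
    have hM2 : ∀ b ∈ M, b ≠ 1 → b = c := by
      intro b hb hb1
      by_contra hne
      have hle : Nat.card ({1, c, b} : Set G) ≤ Nat.card M := Nat.card_mono (Set.toFinite _) (by
        rintro x (rfl | rfl | rfl)
        exacts [one_mem _, mem_inf.2 ⟨hcK, mem_centralizer_singleton_iff.2 hct⟩, hb])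
      rw [Nat.card_coe_set_eq, Set.ncard_eq_three.2 ⟨1, c, b, Ne.symm hc1, Ne.symm hb1, Ne.symm hne, rfl⟩] at hle
      have := Nat.le_of_dvd (by norm_num) hMc
      omega
    have hz : L.z * c * L.z⁻¹ = c := by
      refine hM2 _ (mem_inf.2 ⟨(mem_normalizer_iff.1 (hnorm (mem_map_of_mem L.f zL_mem)) c).1 hcK,
        mem_centralizer_singleton_iff.2 ?_⟩) (fun e => hc1 (conj_eq_one_iff.1 e))
      have hzt : Commute L.z (L.f t) := L.comm_f (by
        have hh : ∀ t ∈ torus, zL * t = t * zL := by decide +kernel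
        exact hh t (mem_torusGrp.1 ht))
      exact ((hzt.mul_left (hct : Commute c _)).mul_left hzt.inv_left).eq
    exact (mul_inv_eq_iff_eq_mul.1 hz).symm
  intro x hx
  obtain ⟨k, hk, j, rfl⟩ := hdec x hx
  exact (show Commute k L.z from mem_centralizer_singleton_iff.1 (hKz hk)).mul_left (Commute.pow_self _ j)

end Loc

end Cfsg.Lib.AltEightLocal
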