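import Cfsg.Agent.LocalThree.AltEightLocal.Build
import Mathlib.GroupTheory.Perm.Cycle.Type

/-!
Involutions of the alternating group of degree eight and the centralisers of some of them.
-/

set_option autoImplicit false
set_option synthInstance.maxSize 4096
set_option maxRecDepth 100000
set_option maxHeartbeats 1000000

namespace Cfsg.Lib.AltEightLocal

open Equiv Subgroup

/-- Involutions with four fixed points. -/
def Tu (σ : Perm (Fin 8)) : Prop := σ * σ = 1 ∧ (Finset.univ.filter fun x => σ x = x).card = 4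

instance instDecTu : DecidablePred Tu := fun σ => inferInstanceAs (Decidable (_ ∧ _))

/-- The block embedding. -/
def bl (p : Perm (Fin 4) × Perm (Fin 4)) : Perm (Fin 8) :=
  (finSumFinEquiv (m := 4) (n := 4)).permCongr (Perm.sumCongr p.1 p.2)

def u8 : A8 := ev (swap 4 5 * swap 6 7)
def v8 : A8 := ev (swap 4 6 * swap 5 7)
def z8 : A8 := ev (swap 0 1 * swap 1 2)
def b8 : A8 := ev (swap 0 1 * swap 2 3)
def c8 : A8 := ev (swap 0 2 * swap 1 3)
def h8 : A8 := ev (swap 0 4 * swap 1 5 * swap 2 6 * swap 3 7)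
def i8 : A8 := ev (swap 0 1 * swap 2 3 * (swap 4 5 * swap 6 7))

theorem mem_bl {σ : Perm (Fin 8)} (h : ∀ i : Fin 4, (σ (finSumFinEquiv (m := 4) (n := 4) (Sum.inl i))).val < 4) :
    ∃ p, σ = bl p := by
  set e := finSumFinEquiv (m := 4) (n := 4) with he
  obtain ⟨p, hp⟩ := Perm.mem_sumCongrHom_range_of_perm_mapsTo_inl (σ := e.symm.permCongr σ) (by
    rintro _ ⟨i, rfl⟩
    refine ⟨⟨(σ (e (Sum.inl i))).val, h i⟩, e.injective ?_⟩
    rw [Equiv.permCongr_apply, Equiv.symm_symm, Equiv.apply_symm_apply]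
    exact Fin.ext rfl)
  refine ⟨p, Equiv.ext fun x => ?_⟩
  have hx := congrArg (fun f : Perm (Fin 4 ⊕ Fin 4) => e (f (e.symm x))) hp
  simpa [bl, Perm.sumCongrHom_apply] using hx.symm

/-- A permutation commuting with one that moves exactly one of the two blocks preserves the blocks. -/
theorem split {σ τ : Perm (Fin 8)} (hc : σ * τ = τ * σ)
    (hτ : (∀ x : Fin 8, τ x = x ↔ x.val < 4) ∨ ∀ x : Fin 8, τ x ≠ x ↔ x.val < 4) : ∃ p, σ = bl p := by
  refine mem_bl fun i => ?_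
  set x := finSumFinEquiv (m := 4) (n := 4) (Sum.inl i) with hx
  have hlt : x.val < 4 := by rw [hx, finSumFinEquiv_apply_left, Fin.val_castAdd]; exact i.2
  have hiff : τ (σ x) = σ x ↔ τ x = x := by
    have h := congrArg (fun f : Perm (Fin 8) => f x) hc
    simp only [Perm.mul_apply] at h
    rw [← h]
    exact σ.injective.eq_iff
  rcases hτ with h | h
  · exact (h _).1 (hiff.2 ((h x).2 hlt))
  · exact (h _).1 fun e => (h x).2 hlt (hiff.1 e)

theorem u8_fix : ∀ x : Fin 8, (u8 : Perm (Fin 8)) x = x ↔ x.val < 4 := by decide +kernel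

theorem c8_move : ∀ x : Fin 8, (c8 : Perm (Fin 8)) x ≠ x ↔ x.val < 4 := by decide +kernel

theorem split_u8 {σ : A8} (h : σ * u8 = u8 * σ) : ∃ p, (σ : Perm (Fin 8)) = bl p :=
  split (congrArg Subtype.val h) (Or.inl u8_fix)

theorem split_c8 {σ : A8} (h : σ * c8 = c8 * σ) : ∃ p, (σ : Perm (Fin 8)) = bl p :=
  split (congrArg Subtype.val h) (Or.inr c8_move)

theorem pack {p : Perm (Fin 4) × Perm (Fin 4)} {σ : A8} (h : (σ : Perm (Fin 8)) = bl p) :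
    ∃ hs : Perm.sign (bl p) = 1, σ = ev (bl p) hs :=
  ⟨h ▸ Perm.mem_alternatingGroup.1 σ.2, Subtype.ext h⟩

theorem three_in_four : ∀ p, Perm.sign (bl p) = 1 → bl p * u8 = u8 * bl p → bl p * v8 = v8 * bl p →
    bl p * bl p * bl p = 1 → bl p ≠ 1 →
    ∃ q : Perm (Fin 4), bl (q, q) * bl p * (bl (q, q))⁻¹ = z8 ∨ bl (q, q) * bl p * (bl (q, q))⁻¹ = (z8 : Perm (Fin 8))⁻¹ := by
  decide +kernel

theorem sign_bl_diag : ∀ q : Perm (Fin 4), Perm.sign (bl (q, q)) = 1 := by decide +kernel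

theorem fours_through : ∀ p, Perm.sign (bl p) = 1 → bl p * u8 = u8 * bl p → Tu (bl p) → Tu (bl p * u8) →
    bl p = v8 ∨ bl p = u8 * v8 ∨ ∃ q : Perm (Fin 4), Perm.sign (bl (q, 1)) = 1 ∧ bl (q, 1) * bl p = bl p * bl (q, 1) ∧
      Tu (bl (q, 1)) ∧ Tu (bl (q, 1) * bl p) ∧ ¬ Tu (bl (q, 1) * u8) ∧ bl (q, 1) * u8 ≠ 1 ∧
      bl (q, 1) * u8 = u8 * bl (q, 1) := by
  decide +kernel

theorem four_triangle : ∀ p, Perm.sign (bl p) = 1 → bl p * u8 = u8 * bl p → bl p * v8 = v8 * bl p → Tu (bl p) →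
    Tu (bl p * v8) → bl p * u8 = 1 ∨ Tu (bl p * u8) := by decide +kernel

theorem cent_u8_exponent : ∀ p, Perm.sign (bl p) = 1 → bl p * u8 = u8 * bl p → bl p ^ 12 = 1 := by decide +kernel

theorem three_moves : ∀ p, Perm.sign (bl p) = 1 → bl p * u8 = u8 * bl p → bl p ^ 3 = 1 → bl p ≠ 1 →
    bl p * b8 * (bl p)⁻¹ * (b8 : Perm (Fin 8))⁻¹ ≠ 1 ∧ bl p * b8 * (bl p)⁻¹ * (b8 : Perm (Fin 8))⁻¹ ≠ u8 ∧
      bl p * b8 * (bl p)⁻¹ * (b8 : Perm (Fin 8))⁻¹ * (bl p * b8 * (bl p)⁻¹ * (b8 : Perm (Fin 8))⁻¹) = 1 := by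
  decide +kernel

theorem i8_partner : ∀ p, Perm.sign (bl p) = 1 → bl p * b8 = b8 * bl p → bl p * i8 = i8 * bl p → bl p * bl p = 1 →
    bl p ≠ 1 → bl p ≠ i8 → ¬ Tu (bl p) → Tu (bl p * b8) → Tu (bl p * i8) := by decide +kernel

theorem b8_move : ∀ x : Fin 8, (b8 : Perm (Fin 8)) x ≠ x ↔ x.val < 4 := by decide +kernel

theorem split_b8 {σ : A8} (h : σ * b8 = b8 * σ) : ∃ p, (σ : Perm (Fin 8)) = bl p :=
  split (congrArg Subtype.val h) (Or.inr b8_move)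

theorem facts8 : Tu (u8 : Perm (Fin 8)) ∧ Tu (v8 : Perm (Fin 8)) ∧ Tu ((u8 * v8 : A8) : Perm (Fin 8)) ∧
    Tu (b8 : Perm (Fin 8)) ∧ Tu (c8 : Perm (Fin 8)) ∧ ¬ Tu (i8 : Perm (Fin 8)) ∧ ¬ Tu ((c8 * i8 : A8) : Perm (Fin 8)) ∧
    ¬ Tu ((b8 * u8 : A8) : Perm (Fin 8)) ∧ ¬ Tu ((c8 * u8 : A8) : Perm (Fin 8)) ∧ ¬ Tu (Gen.j0 : Perm (Fin 8)) ∧
    Tu ((b8 * i8 : A8) : Perm (Fin 8)) := by decide +kernel

theorem relations8 : h8 * h8 = 1 ∧ h8 * u8 * h8⁻¹ = b8 ∧ h8 * v8 * h8⁻¹ = c8 ∧ z8 * b8 * z8⁻¹ = b8 * c8 ∧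
    z8 * (b8 * c8) * z8⁻¹ = c8 ∧ z8 * c8 * z8⁻¹ = b8 ∧ Commute b8 c8 ∧ Commute b8 u8 ∧ Commute c8 u8 ∧
    Commute z8 u8 ∧ Commute z8 v8 ∧ Commute b8 i8 ∧ Commute c8 i8 ∧ Commute b8 v8 ∧ Commute c8 v8 := by
  unfold Commute SemiconjBy
  decide +kernel

theorem images8 : emb placeF uL = u8 ∧ emb placeF vL = v8 ∧ emb placeF zL = z8 := by decide +kernel

theorem Tu_conj {g σ : Perm (Fin 8)} (h : Tu σ) : Tu (g * σ * g⁻¹) := by
  refine ⟨by rw [conj_mul, h.1, mul_one, mul_inv_cancel], ?_⟩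
  refine Eq.trans ?_ h.2
  refine Finset.card_equiv g⁻¹ fun x => ?_
  simp [Equiv.apply_eq_iff_eq_symm_apply]

theorem isConj_of_perm {σ τ : A8} {a b : Fin 8} (hab : a ≠ b) (hc : Commute (swap a b) (τ : Perm (Fin 8)))
    (h : IsConj (σ : Perm (Fin 8)) τ) : IsConj σ τ := by
  obtain ⟨g, hg⟩ := isConj_iff.1 h
  rcases Int.units_eq_one_or (Perm.sign g) with hs | hs
  · exact isConj_iff.2 ⟨ev g hs, Subtype.ext hg⟩
  · refine isConj_iff.2 ⟨ev (swap a b * g) (by rw [map_mul, Perm.sign_swap hab, hs]; rfl), Subtype.ext ?_⟩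
    show swap a b * g * (σ : Perm (Fin 8)) * (swap a b * g)⁻¹ = τ
    rw [show swap a b * g * (σ : Perm (Fin 8)) * (swap a b * g)⁻¹ = swap a b * (g * σ * g⁻¹) * (swap a b)⁻¹ by group,
      hg, hc.eq, mul_inv_cancel_right]

/-- Two classes of involutions. -/
theorem classify (σ : A8) (h : σ * σ = 1) (h1 : σ ≠ 1) :
    (Tu (σ : Perm (Fin 8)) ∧ IsConj σ u8) ∨ (¬ Tu (σ : Perm (Fin 8)) ∧ IsConj σ i8) := by
  have h2 : (σ : Perm (Fin 8)) ^ 2 = 1 := by rw [pow_two]; exact congrArg Subtype.val h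
  have hne : (σ : Perm (Fin 8)) ≠ 1 := fun e => h1 (Subtype.ext e)
  obtain ⟨m, hm⟩ := Perm.cycleType_prime_order (σ := (σ : Perm (Fin 8))) (by
    rw [orderOf_eq_prime h2 hne]; exact Nat.prime_two)
  rw [orderOf_eq_prime h2 hne] at hm
  have hsum : (m + 1) * 2 ≤ 8 := by
    have h3 := Perm.sum_cycleType (σ : Perm (Fin 8))
    rw [hm, Multiset.sum_replicate, smul_eq_mul] at h3
    exact h3.le.trans ((Finset.card_le_univ _).trans (by simp))
  have hsign : Perm.sign (σ : Perm (Fin 8)) = 1 := Perm.mem_alternatingGroup.1 σ.2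
  have hu : (u8 : Perm (Fin 8)).cycleType = Multiset.replicate 2 2 := by decide +kernel
  have hi : (i8 : Perm (Fin 8)).cycleType = Multiset.replicate 4 2 := by decide +kernel
  have key : IsConj (σ : Perm (Fin 8)) u8 ∨ IsConj (σ : Perm (Fin 8)) i8 := by
    rw [Perm.sign_of_cycleType, hm, Multiset.sum_replicate, Multiset.card_replicate, smul_eq_mul] at hsign
    rw [Perm.isConj_iff_cycleType_eq, Perm.isConj_iff_cycleType_eq, hu, hi, hm]
    have hm3 : m < 4 := by omega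
    interval_cases m
    · exact absurd hsign (by decide)
    · exact Or.inl rfl
    · exact absurd hsign (by decide)
    · exact Or.inr rfl
  rcases key with k | k
  · have k' := isConj_of_perm (σ := σ) (τ := u8) (a := 4) (b := 5) (by decide)
      (show swap 4 5 * (u8 : Perm (Fin 8)) = (u8 : Perm (Fin 8)) * swap 4 5 by decide +kernel) k
    obtain ⟨g, hg⟩ := isConj_iff.1 k.symm
    exact Or.inl ⟨hg ▸ Tu_conj facts8.1, k'⟩
  · have k' := isConj_of_perm (σ := σ) (τ := i8) (a := 0) (b := 1) (by decide)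
      (show swap 0 1 * (i8 : Perm (Fin 8)) = (i8 : Perm (Fin 8)) * swap 0 1 by decide +kernel) k
    obtain ⟨g, hg⟩ := isConj_iff.1 k
    exact Or.inr ⟨fun hT => facts8.2.2.2.2.2.1 (hg ▸ Tu_conj hT), k'⟩

end Cfsg.Lib.AltEightLocal
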