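import Cfsg.Agent.LocalThree.AltEightLocal.Data
import Mathlib.GroupTheory.Sylow
import Mathlib.GroupTheory.SpecificGroups.Dihedral

/-!
The two embeddings attached to the two classes of lines in the elementary group of order nine.
-/

set_option autoImplicit false
set_option synthInstance.maxSize 4096
set_option maxRecDepth 100000
set_option maxHeartbeats 1000000

namespace Cfsg.Lib.AltEightLocal

open Equiv Subgroup

universe u

theorem L0_normal (s : Pr) (x : L0) : s * (x : Pr) * s⁻¹ ∈ L0 := (MonoidHom.normal_ker _).conj_mem _ x.2 _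

/-- The automorphism induced by conjugation with a pair. -/
def tw (s : Pr) : L0 →* L0 where
  toFun x := ⟨s * (x : Pr) * s⁻¹, L0_normal s x⟩
  map_one' := Subtype.ext (by simp)
  map_mul' x y := Subtype.ext (by simp [mul_assoc])

theorem tw_coe (s : Pr) (x : L0) : (tw s x : Pr) = s * (x : Pr) * s⁻¹ := rfl

theorem tw_inj (s : Pr) : Function.Injective (tw s) := fun _ _ h =>
  Subtype.ext (mul_left_cancel (mul_right_cancel (congrArg Subtype.val h)))

theorem tw_surj (s : Pr) : Function.Surjective (tw s) := fun x =>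
  ⟨tw s⁻¹ x, Subtype.ext (by simp [tw_coe, mul_assoc])⟩

theorem tw_fix {s : Pr} {x : L0} (h : s * (x : Pr) * s⁻¹ = (x : Pr)) : tw s x = x := Subtype.ext h

theorem range_comp_tw {G : Type u} [Group G] (f : L0 →* G) (s : Pr) : (f.comp (tw s)).range = f.range := by
  rw [MonoidHom.range_comp, MonoidHom.range_eq_top.2 (tw_surj s), ← MonoidHom.range_eq_map]

/-- The torus as a subgroup. -/
def torusGrp : Subgroup L0 where
  carrier := {x | x ∈ torus}
  one_mem' := by decide +kernel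
  mul_mem' {a b} ha hb := by
    have h : ∀ a ∈ torus, ∀ b ∈ torus, a * b ∈ torus := by decide +kernel
    exact h a ha b hb
  inv_mem' {a} ha := by
    have h : ∀ a ∈ torus, a⁻¹ ∈ torus := by decide +kernel
    exact h a ha

theorem mem_torusGrp {x : L0} : x ∈ torusGrp ↔ x ∈ torus := Iff.rfl

theorem zL_mem : zL ∈ torusGrp := mem_torusGrp.2 (by decide +kernel)

theorem wL_mem : wL ∈ torusGrp := mem_torusGrp.2 (by decide +kernel)

theorem card_torusGrp : Nat.card torusGrp = 9 := by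
  rw [show Nat.card torusGrp = Nat.card {x // x ∈ torus} from rfl, Nat.card_eq_fintype_card, Fintype.card_coe]
  decide +kernel

variable {G : Type u} [Group G]

/-- The local data. -/
structure Loc (G : Type u) [Group G] where
  f : L0 →* G
  g : L0 →* G
  f_inj : Function.Injective f
  g_inj : Function.Injective g
  f_norm : ∀ x : G, x * f zL * x⁻¹ = f zL ∨ x * f zL * x⁻¹ = (f zL)⁻¹ → x ∈ f.range
  g_norm : ∀ x : G, x * f wL * x⁻¹ = f wL ∨ x * f wL * x⁻¹ = (f wL)⁻¹ → x ∈ g.range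
  gz : g wL = f zL
  gw : g zL = f wL
  gr : g rL = f s3
  gt : g t6 = f s6
  cenD : ∀ x : G, Commute x (f zL) → Commute x (f wL) → ∃ t ∈ torusGrp, f t = x
  card_zw : Nat.card (centralizer ({f (zL * wL)} : Set G)) = 18
  not27 : ¬ 27 ∣ Nat.card G

theorem card_cent_conj (x a : G) :
    Nat.card (centralizer ({x * a * x⁻¹} : Set G)) = Nat.card (centralizer ({a} : Set G)) := by
  refine (Nat.card_congr ((MulAut.conj x).toEquiv.subtypeEquiv fun c => ?_)).symm
  show c ∈ centralizer ({a} : Set G) ↔ x * c * x⁻¹ ∈ centralizer ({x * a * x⁻¹} : Set G)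
  rw [mem_centralizer_singleton_iff, mem_centralizer_singleton_iff, show (x * c * x⁻¹) * (x * a * x⁻¹) =
    x * (c * a) * x⁻¹ by group, show (x * a * x⁻¹) * (x * c * x⁻¹) = x * (a * c) * x⁻¹ by group,
    mul_left_inj, mul_right_inj]

theorem card_cent_inv (a : G) :
    Nat.card (centralizer ({a⁻¹} : Set G)) = Nat.card (centralizer ({a} : Set G)) := by
  refine congrArg (fun H : Subgroup G => Nat.card H) ?_
  ext c
  rw [mem_centralizer_singleton_iff, mem_centralizer_singleton_iff]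
  exact ⟨fun h => (Commute.inv_right_iff.1 (h : Commute c a⁻¹)).eq, fun h => (Commute.inv_right (h : Commute c a)).eq⟩

variable [Finite G]

/-- Large centraliser of the first generator. -/
theorem card_cent_first {f : L0 →* G} (hf : Function.Injective f) :
    18 < Nat.card (centralizer ({f zL} : Set G)) := by
  refine lt_of_lt_of_le card_even_part ?_
  rw [← Fintype.card_coe, ← Nat.card_eq_fintype_card]
  refine Nat.card_le_card_of_injective
    (fun x => (⟨f x.1, mem_centralizer_singleton_iff.2 (by rw [← map_mul, ← map_mul, (Finset.mem_filter.1 x.2).2])⟩ :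
      centralizer ({f zL} : Set G))) fun a b h => Subtype.ext (hf (congrArg Subtype.val h))

/-- Three lines would give too large a normaliser. -/
theorem line_contradiction {f : L0 →* G} (hf : Function.Injective f) {D : Subgroup G}
    (hD : torusGrp.map f = D) (hN : Nat.card (normalizer (D : Set G)) = 72) {n : G}
    (hn : n ∈ normalizer (D : Set G)) (hnzz : n * f zL * n⁻¹ ≠ f zL ∧ n * f zL * n⁻¹ ≠ (f zL)⁻¹)
    (hnzw : n * f zL * n⁻¹ ≠ f wL ∧ n * f zL * n⁻¹ ≠ (f wL)⁻¹) : False := by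
  classical
  set A := Finset.univ.filter (fun x : L0 => x * zL * x⁻¹ ∈ torus ∧ x * wL * x⁻¹ ∈ torus) with hA
  obtain ⟨t, ht, he⟩ : n * f zL * n⁻¹ ∈ torusGrp.map f :=
    hD.symm ▸ (mem_normalizer_iff.1 hn _).1 (hD ▸ mem_map_of_mem f zL_mem)
  have htt : t ≠ zL ∧ t ≠ zL⁻¹ ∧ t ≠ wL ∧ t ≠ wL⁻¹ ∧ t ≠ 1 := by
    refine ⟨fun e => hnzz.1 ?_, fun e => hnzz.2 ?_, fun e => hnzw.1 ?_, fun e => hnzw.2 ?_, fun e => ?_⟩
    · rw [← he, e]
    · rw [← he, e, map_inv]
    · rw [← he, e]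
    · rw [← he, e, map_inv]
    · rw [e, map_one, eq_comm, conj_eq_one_iff] at he
      exact absurd (hf (he.trans f.map_one.symm)) (by decide +kernel)
  have hlines : ∀ t ∈ torus, t ≠ zL → t ≠ zL⁻¹ → t ≠ wL → t ≠ wL⁻¹ → t ≠ 1 →
      rL * t * rL⁻¹ ≠ t ∧ rL * t * rL⁻¹ ≠ t⁻¹ ∧ rL * t * rL⁻¹ ≠ zL ∧ rL * t * rL⁻¹ ≠ zL⁻¹ := by
    decide +kernel
  obtain ⟨hl1, hl2, hl3, hl4⟩ := hlines t ht htt.1 htt.2.1 htt.2.2.1 htt.2.2.2.1 htt.2.2.2.2
  set T : Fin 3 → L0 := ![zL, t, rL * t * rL⁻¹] with hT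
  set c : Fin 3 → G := ![1, n, f rL * n] with hc
  have hcT : ∀ i, c i * f zL * (c i)⁻¹ = f (T i) := by
    intro i
    fin_cases i
    · simp [c, T]
    · simpa [c, T] using he.symm
    · show f rL * n * f zL * (f rL * n)⁻¹ = f (rL * t * rL⁻¹)
      rw [map_mul, map_mul, map_inv, he]
      group
  have hnd : ∀ i j : Fin 3, T i = T j ∨ T i = (T j)⁻¹ → i = j := by
    intro i j h
    fin_cases i <;> fin_cases j <;> simp only [T] at h ⊢ <;>
      simp only [Matrix.cons_val_zero, Matrix.cons_val_one, Matrix.cons_val_two, Matrix.head_cons,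
        Matrix.tail_cons, Fin.zero_eta, Fin.mk_one, Fin.reduceFinMk, Matrix.cons_val] at h ⊢
    all_goals try rfl
    all_goals exfalso
    · rcases h with h | h
      exacts [htt.1 h.symm, htt.2.1 (by rw [h, inv_inv])]
    · rcases h with h | h
      exacts [hl3 h.symm, hl4 (by rw [h, inv_inv])]
    · exact h.elim htt.1 htt.2.1
    · rcases h with h | h
      exacts [hl1 h.symm, hl2 (by nth_rewrite 2 [h]; rw [inv_inv])]
    · exact h.elim hl3 hl4
    · exact h.elim hl1 hl2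
  have hmem : ∀ x ∈ A, f x ∈ normalizer (D : Set G) := by
    intro x hx
    have hx' := (Finset.mem_filter.1 hx).2
    have key : ∀ d ∈ torusGrp, x * d * x⁻¹ ∈ torusGrp := fun d hd => by
      obtain ⟨p, -, rfl⟩ := Finset.mem_image.1 (mem_torusGrp.1 hd)
      rw [← conj_mul, ← conj_pow, ← conj_pow]
      exact mul_mem (pow_mem (mem_torusGrp.2 hx'.1) _) (pow_mem (mem_torusGrp.2 hx'.2) _)
    have h1 : D.map (MulAut.conj (f x)).toMonoidHom = D := by
      refine eq_of_le_of_card_ge ?_ (card_map_of_injective (MulAut.conj (f x)).injective).ge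
      rintro _ ⟨d, hd, rfl⟩
      obtain ⟨d', hd', rfl⟩ := (hD.symm ▸ hd : d ∈ torusGrp.map f)
      exact hD ▸ ⟨x * d' * x⁻¹, key d' hd', by rw [map_mul, map_mul, map_inv]; rfl⟩
    rw [mem_normalizer_iff]
    refine fun d => ⟨fun hd => h1 ▸ ⟨d, hd, rfl⟩, fun hd => ?_⟩
    obtain ⟨d', hd', e⟩ := (h1.symm ▸ hd : f x * d * (f x)⁻¹ ∈ D.map (MulAut.conj (f x)).toMonoidHom)
    exact (MulAut.conj (f x)).injective e ▸ hd'
  have hcN : ∀ i, c i ∈ normalizer (D : Set G) := by
    intro i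
    fin_cases i
    · exact one_mem _
    · exact hn
    · exact mul_mem (hmem rL (Finset.mem_filter.2 ⟨Finset.mem_univ _, by decide +kernel⟩)) hn
  let φ : Fin 3 × {x // x ∈ A} → normalizer (D : Set G) := fun p =>
    ⟨c p.1 * f p.2.1, mul_mem (hcN p.1) (hmem _ p.2.2)⟩
  have hφ : Function.Injective φ := by
    rintro ⟨i, x⟩ ⟨j, x'⟩ h
    have h' : c i * f x.1 = c j * f x'.1 := congrArg Subtype.val h
    have key : ∀ (i : Fin 3) (x : L0), c i * f x * f zL * (c i * f x)⁻¹ = f (T i) ∨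
        c i * f x * f zL * (c i * f x)⁻¹ = (f (T i))⁻¹ := by
      intro i x
      rw [show c i * f x * f zL * (c i * f x)⁻¹ = c i * (f x * f zL * (f x)⁻¹) * (c i)⁻¹ by group,
        ← map_inv, ← map_mul, ← map_mul]
      rcases normalizing_z x with e | e <;> rw [e]
      · exact Or.inl (hcT i)
      · exact Or.inr (by rw [← hcT i, map_inv]; group)
    have hij : i = j := by
      refine hnd i j ?_
      have k1 := key i x.1
      rw [h'] at k1
      rcases k1 with e | e <;> rcases key j x'.1 with e' | e'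
      · exact Or.inl (hf (e.symm.trans e'))
      · exact Or.inr (hf (by rw [map_inv]; exact e.symm.trans e'))
      · exact Or.inr (hf (by rw [map_inv, ← e', e, inv_inv]))
      · exact Or.inl (hf (inv_injective (e.symm.trans e')))
    subst hij
    exact Prod.ext rfl (Subtype.ext (hf (mul_left_cancel h')))
  have h1 := Nat.card_le_card_of_injective φ hφ
  rw [hN, Nat.card_prod, Nat.card_fin, Nat.card_eq_fintype_card, Fintype.card_coe, card_normalizing] at h1
  omega

/-- The data exist. -/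
theorem exists_loc (P : Sylow 3 G) (D : Subgroup G) (hDP : D = P) (y z : G) (hgen : closure {y, z} = D)
    (hcomm : IsMulCommutative D) (hcard : Nat.card D = 9) (hexp : ∀ a ∈ D, a ^ 3 = 1)
    (hC : centralizer (D : Set G) = D)
    (eN : normalizer (D : Set G) ⧸ D.subgroupOf (normalizer (D : Set G)) ≃* DihedralGroup 4)
    (hycard : Nat.card (centralizer ({y} : Set G)) = 18)
    (eL : normalizer (zpowers z : Set G) ≃* L0) : Nonempty (Loc G) := by
  haveI : Fact (Nat.Prime 3) := ⟨Nat.prime_three⟩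
  have hy : y ∈ D := hgen ▸ subset_closure (by simp)
  have hz : z ∈ D := hgen ▸ subset_closure (by simp)
  have h27 : ¬ 27 ∣ Nat.card G := by
    intro h
    have h1 : (3 : ℕ) ^ 3 ∣ Nat.card (P : Subgroup G) := P.pow_dvd_card_of_pow_dvd_card h
    rw [← hDP, hcard] at h1
    norm_num at h1
  have hz1 : z ≠ 1 := by
    intro h
    rw [h, show ({y, (1 : G)} : Set G) = insert y {1} from rfl] at hgen
    have hle : D ≤ zpowers y := hgen ▸ (closure_le _).2 (by
      rintro a (rfl | rfl)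
      · exact mem_zpowers a
      · exact one_mem _)
    have h1 := Nat.le_of_dvd (Nat.card_pos) (card_dvd_of_le hle)
    rw [hcard, Nat.card_zpowers] at h1
    have h2 := Nat.le_of_dvd (by norm_num) (orderOf_dvd_of_pow_eq_one (hexp y hy))
    omega
  have hz3 : orderOf z = 3 := orderOf_eq_prime (hexp z hz) hz1
  set N := normalizer (zpowers z : Set G) with hN
  set f0 : L0 →* G := N.subtype.comp eL.symm.toMonoidHom with hf0
  have hf0i : Function.Injective f0 := N.subtype_injective.comp eL.symm.injective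
  have hf0r : f0.range = N := by
    rw [hf0, MonoidHom.range_comp, MonoidHom.range_eq_top.2 eL.symm.surjective, ← MonoidHom.range_eq_map,
      range_subtype]
  have hzN : z ∈ N := le_normalizer (mem_zpowers z)
  obtain ⟨k, hk⟩ : z ∈ f0.range := hf0r ▸ hzN
  have hkinv : ∀ a : L0, a * k * a⁻¹ = k ∨ a * k * a⁻¹ = k⁻¹ := by
    intro a
    have ha : f0 a ∈ N := hf0r ▸ ⟨a, rfl⟩
    have h := (mem_normalizer_iff.1 ha z).1 (mem_zpowers z)
    classical
    rw [mem_zpowers_iff_mem_range_orderOf, hz3] at h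
    simp only [Finset.mem_image, Finset.mem_range] at h
    obtain ⟨j, hj, hjz⟩ := h
    rw [← hk, ← map_inv, ← map_mul, ← map_mul, ← map_pow] at hjz
    have hka := hf0i hjz
    have hk1 : k ≠ 1 := fun h1 => hz1 (by rw [← hk, h1, map_one])
    interval_cases j
    · exact absurd (conj_eq_one_iff.1 (hka.symm.trans (pow_zero k))) hk1
    · exact Or.inl (by rw [← hka, pow_one])
    · refine Or.inr (by rw [← hka, eq_inv_iff_mul_eq_one, ← pow_succ]; exact hf0i (by rw [map_pow, hk, map_one]; exact hexp z hz))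
  have hk3 : k * k * k = 1 := hf0i (by
    rw [map_mul, map_mul, hk, map_one, show z * z * z = z ^ 3 by rw [pow_succ, pow_two]]; exact hexp z hz)
  have hkne : (k : Pr) ≠ 1 := fun h => hz1 (by rw [← hk, show k = 1 from Subtype.ext h, map_one])
  have hcase := normal_three_pr (k : Pr) k.2 (congrArg Subtype.val hk3) hkne
    ((hkinv wL).imp (congrArg Subtype.val) (congrArg Subtype.val))
    ((hkinv (el 1 (swap 2 3 * swap 3 4))).imp (congrArg Subtype.val) (congrArg Subtype.val))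
  obtain ⟨f1, hf1i, hf1r, hf1z⟩ : ∃ f1 : L0 →* G, Function.Injective f1 ∧ f1.range = N ∧ f1 zL = z := by
    rcases hcase with h | h
    · exact ⟨f0, hf0i, hf0r, by rw [← hk]; exact congrArg f0 (Subtype.ext h.symm)⟩
    · refine ⟨f0.comp (tw (s5 : Pr)), hf0i.comp (tw_inj _), (range_comp_tw _ _).trans hf0r, ?_⟩
      rw [← hk]
      refine congrArg f0 (Subtype.ext ?_)
      rw [tw_coe, h]
      decide +kernel
  have hz3' : z ^ (2 + 1) = 1 := hexp z hz
  -- the second three-element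
  have hDN : D ≤ N := fun d hd => centralizer_le_normalizer _ (show d ∈ centralizer (zpowers z : Set G) from
    mem_centralizer_iff.2 fun a ha => by
      obtain ⟨j, rfl⟩ := mem_zpowers_iff.1 ha
      exact congrArg Subtype.val (hcomm.is_comm.comm (⟨z ^ j, zpow_mem hz j⟩ : D) ⟨d, hd⟩))
  obtain ⟨f2, hf2i, hf2r, hf2z, hf2w⟩ :
      ∃ f2 : L0 →* G, Function.Injective f2 ∧ f2.range = N ∧ f2 zL = z ∧ f2 wL ∈ D := by
    obtain ⟨b, hb, hbz⟩ : ∃ b ∈ D, ∀ j : ℕ, b ≠ z ^ j := by
      by_contra hcon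
      push Not at hcon
      have hle : D ≤ zpowers z := fun b hb => by
        obtain ⟨j, hj⟩ := hcon b hb
        exact hj ▸ pow_mem (mem_zpowers z) j
      have h1 := Nat.le_of_dvd Nat.card_pos (card_dvd_of_le hle)
      rw [hcard, Nat.card_zpowers, hz3] at h1
      omega
    obtain ⟨x, hx⟩ : b ∈ f1.range := hf1r ▸ hDN hb
    have hx3 : x * x * x = 1 := hf1i (by
      rw [map_mul, map_mul, hx, map_one, show b * b * b = b ^ 3 by rw [pow_succ, pow_two]]; exact hexp b hb)
    have hxz : x * zL = zL * x := hf1i (by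
      rw [map_mul, map_mul, hx, hf1z]; exact congrArg Subtype.val (hcomm.is_comm.comm (⟨b, hb⟩ : D) ⟨z, hz⟩))
    obtain ⟨i, hi⟩ : ∃ i : ℕ, x.1.1 = c3 ^ i := by
      rcases cube_comm x hx3 hxz with h | h | h
      exacts [⟨0, h⟩, ⟨1, by rw [h, pow_one]⟩, ⟨2, by rw [h, pow_two]⟩]
    have hb1 : x.1.2 ≠ 1 := by
      intro h
      refine hbz i ?_
      rw [← hx, ← hf1z, ← map_pow]
      exact congrArg f1 (Subtype.ext (Prod.ext (by rw [hi]; rfl) (by rw [h]; exact (one_pow i).symm)))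
    obtain ⟨s, hs⟩ := three_cycle_conj x.1.2 (congrArg (fun e : L0 => e.1.2) hx3) hb1
    refine ⟨f1.comp (tw (1, s⁻¹)), hf1i.comp (tw_inj _), (range_comp_tw _ _).trans hf1r, ?_, ?_⟩
    · rw [← hf1z]
      exact congrArg f1 (tw_fix (Prod.ext (by simp) (by simp [zL, el])))
    · have e : tw (1, s⁻¹) wL = (zL ^ i)⁻¹ * x := Subtype.ext (Prod.ext
        (by show 1 * (1 : Perm (Fin 3)) * 1⁻¹ = (c3 ^ i)⁻¹ * x.1.1; rw [hi]; simp)
        (by show s⁻¹ * c5 * s⁻¹⁻¹ = ((1 : Perm (Fin 5)) ^ i)⁻¹ * x.1.2; rw [← hs]; group))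
      show f1 (tw (1, s⁻¹) wL) ∈ D
      rw [e, map_mul, map_inv, map_pow, hx, hf1z]
      exact mul_mem (inv_mem (pow_mem hz i)) hb
  -- the torus is the Sylow subgroup
  have hDeq : torusGrp.map f2 = D := by
    refine eq_of_le_of_card_ge ?_ (by rw [hcard, card_map_of_injective hf2i, card_torusGrp])
    rintro _ ⟨t, ht, rfl⟩
    obtain ⟨p, -, rfl⟩ := Finset.mem_image.1 (mem_torusGrp.1 ht)
    rw [map_mul, map_pow, map_pow, hf2z]
    exact mul_mem (pow_mem hz _) (pow_mem hf2w _)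
  have hfnorm : ∀ x : G, x * f2 zL * x⁻¹ = f2 zL ∨ x * f2 zL * x⁻¹ = (f2 zL)⁻¹ → x ∈ f2.range := by
    intro x hx
    rw [hf2z] at hx
    rw [hf2r, hN, mem_normalizer_iff]
    intro a
    have hfw : ∀ m : ℤ, x * z ^ m * x⁻¹ ∈ zpowers z := fun m => by
      rw [← conj_zpow]
      rcases hx with h | h <;> rw [h]
      · exact zpow_mem (mem_zpowers z) m
      · exact zpow_mem (inv_mem (mem_zpowers z)) m
    refine ⟨fun ha => ?_, fun ha => ?_⟩
    · obtain ⟨m, rfl⟩ := mem_zpowers_iff.1 ha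
      exact hfw m
    · obtain ⟨m, hm⟩ := mem_zpowers_iff.1 ha
      have e : a = x⁻¹ * z ^ m * x := by rw [hm]; group
      rcases hx with h | h
      · rw [e, show z ^ m = x * z ^ m * x⁻¹ by rw [← conj_zpow, h],
          show x⁻¹ * (x * z ^ m * x⁻¹) * x = z ^ m by group]
        exact zpow_mem (mem_zpowers z) m
      · rw [e, show z ^ m = x * z ^ (-m) * x⁻¹ by rw [← conj_zpow, h, inv_zpow, zpow_neg, inv_inv],
          show x⁻¹ * (x * z ^ (-m) * x⁻¹) * x = z ^ (-m) by group]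
        exact zpow_mem (mem_zpowers z) _
  -- an element exchanging the lines
  have hcardN : Nat.card (normalizer (D : Set G)) = 72 := by
    rw [card_eq_card_quotient_mul_card_subgroup (D.subgroupOf (normalizer (D : Set G))), Nat.card_congr eN.toEquiv,
      DihedralGroup.nat_card, Nat.card_congr (subgroupOfEquivOfLe le_normalizer).toEquiv, hcard]
  obtain ⟨n, hn, hnL⟩ : ∃ n ∈ normalizer (D : Set G), n ∉ f2.range := by
    by_contra hcon
    push Not at hcon
    have hmem : ∀ a : normalizer (D : Set G), ∃ x : L0, f2 x = a ∧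
        x ∈ Finset.univ.filter (fun x : L0 => x * zL * x⁻¹ ∈ torus ∧ x * wL * x⁻¹ ∈ torus) := by
      intro a
      obtain ⟨x, hx⟩ := hcon a a.2
      refine ⟨x, hx, Finset.mem_filter.2 ⟨Finset.mem_univ _, ?_⟩⟩
      have key : ∀ t ∈ torusGrp, x * t * x⁻¹ ∈ torus := fun t ht => by
        have h1 := (mem_normalizer_iff.1 a.2 (f2 t)).1 (hDeq ▸ mem_map_of_mem f2 ht)
        rw [← hx, ← map_inv, ← map_mul, ← map_mul] at h1
        obtain ⟨t', ht', e⟩ := (hDeq.symm ▸ h1 : f2 (x * t * x⁻¹) ∈ torusGrp.map f2)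
        exact hf2i e ▸ ht'
      exact ⟨key _ zL_mem, key _ wL_mem⟩
    choose φ hφ hφm using hmem
    have h1 := Nat.card_le_card_of_injective (fun a => (⟨φ a, hφm a⟩ : {x // x ∈ Finset.univ.filter
        (fun x : L0 => x * zL * x⁻¹ ∈ torus ∧ x * wL * x⁻¹ ∈ torus)}))
      fun a b h => Subtype.ext (by rw [← hφ a, ← hφ b]; exact congrArg (fun e => f2 e.1) h)
    rw [hcardN, Nat.card_eq_fintype_card, Fintype.card_coe, card_normalizing] at h1
    omega
  have hCz : 18 < Nat.card (centralizer ({f2 zL} : Set G)) := card_cent_first hf2i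
  -- elements of large centraliser in the torus
  have hlarge : ∀ d ∈ D, d ≠ 1 → d ≠ f2 zL → d ≠ (f2 zL)⁻¹ → d ≠ f2 wL → d ≠ (f2 wL)⁻¹ →
      Nat.card (centralizer ({d} : Set G)) = Nat.card (centralizer ({f2 (zL * wL)} : Set G)) := by
    intro d hd h1 h2 h3 h4 h5
    obtain ⟨t, ht, rfl⟩ := (hDeq.symm ▸ hd : d ∈ torusGrp.map f2)
    rcases off_lines t ht (fun e => h1 (by rw [e, map_one])) (fun e => h2 (by rw [e]))
      (fun e => h3 (by rw [e, map_inv])) (fun e => h4 (by rw [e])) (fun e => h5 (by rw [e, map_inv])) with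
      e | e | e | e <;> rw [e]
    · rw [map_inv, card_cent_inv]
    · rw [map_mul, map_mul, map_inv, card_cent_conj]
    · rw [map_inv, card_cent_inv, map_mul, map_mul, map_inv, card_cent_conj]
  -- the image of the first line
  have hmemD : ∀ t ∈ torusGrp, f2 t ∈ D := fun t ht => hDeq ▸ mem_map_of_mem f2 ht
  have hnz : n * f2 zL * n⁻¹ ∈ D := (mem_normalizer_iff.1 hn _).1 (hmemD _ zL_mem)
  have hnw : n * f2 wL * n⁻¹ ∈ D := (mem_normalizer_iff.1 hn _).1 (hmemD _ wL_mem)
  have hne : ∀ a : L0, a ≠ 1 → n * f2 a * n⁻¹ ≠ 1 := fun a ha h =>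
    ha (hf2i ((conj_eq_one_iff.1 h).trans f2.map_one.symm))
  have hy1 : y ≠ 1 := by
    intro h
    rw [h] at hycard
    have : centralizer ({(1 : G)} : Set G) = ⊤ := eq_top_iff.2 fun a _ => mem_centralizer_singleton_iff.2 (by simp)
    rw [this, card_top] at hycard
    have := hCz.trans_le (card_le_card_group (centralizer ({f2 zL} : Set G)))
    omega
  have hoff : Nat.card (centralizer ({f2 (zL * wL)} : Set G)) = 18 ∨
      ((y = f2 wL ∨ y = (f2 wL)⁻¹) ∧ Nat.card (centralizer ({f2 wL} : Set G)) = 18) := by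
    by_cases h4 : y = f2 wL ∨ y = (f2 wL)⁻¹
    · refine Or.inr ⟨h4, ?_⟩
      rcases h4 with h | h
      · rw [← h, hycard]
      · rw [← card_cent_inv, ← h, hycard]
    · push Not at h4
      refine Or.inl ((hlarge y hy hy1 (fun e => ?_) (fun e => ?_) h4.1 h4.2).symm.trans hycard)
      · rw [e] at hycard; omega
      · rw [e, card_cent_inv] at hycard; omega
  have hnzz : n * f2 zL * n⁻¹ ≠ f2 zL ∧ n * f2 zL * n⁻¹ ≠ (f2 zL)⁻¹ :=
    ⟨fun h => hnL (hfnorm n (Or.inl h)), fun h => hnL (hfnorm n (Or.inr h))⟩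
  -- it is the second line
  have hnz' : n * f2 zL * n⁻¹ = f2 wL ∨ n * f2 zL * n⁻¹ = (f2 wL)⁻¹ := by
    by_contra hcon
    push Not at hcon
    have h1 := hlarge _ hnz (hne _ (by decide +kernel)) hnzz.1 hnzz.2 hcon.1 hcon.2
    rw [card_cent_conj] at h1
    rcases hoff with h | -
    · omega
    · exact line_contradiction hf2i hDeq hcardN hn hnzz hcon
  have hCw : 18 < Nat.card (centralizer ({f2 wL} : Set G)) := by
    rcases hnz' with h | h
    · rwa [← h, card_cent_conj]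
    · rwa [← card_cent_inv, ← h, card_cent_conj]
  have h18 : Nat.card (centralizer ({f2 (zL * wL)} : Set G)) = 18 := by
    rcases hoff with h | ⟨-, h⟩
    · exact h
    · omega
  have hnw' : n * f2 wL * n⁻¹ = f2 zL ∨ n * f2 wL * n⁻¹ = (f2 zL)⁻¹ := by
    by_contra hcon
    push Not at hcon
    have hinj : ∀ a b : L0, n * f2 a * n⁻¹ = n * f2 b * n⁻¹ → a = b := fun a b h =>
      hf2i (mul_left_cancel (mul_right_cancel h))
    have key : ∀ a : L0, n * f2 wL * n⁻¹ = f2 a → a ≠ wL ∧ a ≠ wL⁻¹ := by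
      intro a ha
      constructor <;> intro e <;> rw [e] at ha <;> rcases hnz' with h | h
      · exact absurd (hinj _ _ (ha.trans h.symm)) (by decide +kernel)
      · exact absurd (hinj wL zL⁻¹ (by rw [map_inv, conj_inv.symm, h, inv_inv, ha])) (by decide +kernel)
      · exact absurd (hinj wL zL⁻¹ (by rw [map_inv, conj_inv.symm, h, ha, map_inv])) (by decide +kernel)
      · exact absurd (hinj _ _ (ha.trans ((map_inv f2 _).trans h.symm))) (by decide +kernel)
    have h2 := hlarge _ hnw (hne _ (by decide +kernel)) hcon.1 hcon.2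
      (fun h => (key wL h).1 rfl) (fun h => (key wL⁻¹ (by rw [h, map_inv])).2 rfl)
    rw [card_cent_conj] at h2
    omega
  -- adjust the signs
  obtain ⟨m, hmz, hmw⟩ : ∃ m : G, m * f2 zL * m⁻¹ = f2 wL ∧ m * f2 wL * m⁻¹ = f2 zL := by
    obtain ⟨hr1, hr2, hs1, hs2⟩ := r_signs
    have R : ∀ (a x x' : L0), a * x * a⁻¹ = x' → f2 a * f2 x * (f2 a)⁻¹ = f2 x' := fun a x x' h => by
      rw [← h, map_mul, map_mul, map_inv]
    have comp : ∀ (a b c d e : G), b * c * b⁻¹ = d → a * d * a⁻¹ = e → a * b * c * (a * b)⁻¹ = e :=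
      fun a b c d e h1 h2 => by rw [← h2, ← h1]; group
    have Ri : ∀ (a x x' : L0), a * x * a⁻¹ = x' → f2 a * (f2 x)⁻¹ * (f2 a)⁻¹ = (f2 x')⁻¹ := fun a x x' h => by
      rw [← R a x x' h]; group
    rcases hnz' with h | h <;> rcases hnw' with h' | h'
    · exact ⟨n, h, h'⟩
    · exact ⟨f2 (s5 * rL) * n, comp _ _ _ _ _ h (R _ _ _ (by decide +kernel)),
        comp _ _ _ _ _ h' ((Ri (s5 * rL) zL zL⁻¹ (by decide +kernel)).trans (by rw [map_inv, inv_inv]))⟩
    · exact ⟨f2 rL * n, comp _ _ _ _ _ h ((Ri _ _ _ hr2).trans (by rw [map_inv, inv_inv])),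
        comp _ _ _ _ _ h' (R _ _ _ hr1)⟩
    · exact ⟨f2 s5 * n, comp _ _ _ _ _ h ((Ri _ _ _ hs2).trans (by rw [map_inv, inv_inv])),
        comp _ _ _ _ _ h' ((Ri _ _ _ hs1).trans (by rw [map_inv, inv_inv]))⟩
  set g0 : L0 →* G := (MulAut.conj m).toMonoidHom.comp f2 with hg0
  have hg0i : Function.Injective g0 := (MulAut.conj m).injective.comp hf2i
  have hg0a : ∀ x, g0 x = m * f2 x * m⁻¹ := fun x => rfl
  have hgnorm : ∀ x : G, x * f2 wL * x⁻¹ = f2 wL ∨ x * f2 wL * x⁻¹ = (f2 wL)⁻¹ → x ∈ g0.range := by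
    intro x hx
    have h := hfnorm (m⁻¹ * x * m) (by
      rcases hx with e | e
      · refine Or.inl ?_
        calc m⁻¹ * x * m * f2 zL * (m⁻¹ * x * m)⁻¹ = m⁻¹ * (x * (m * f2 zL * m⁻¹) * x⁻¹) * m := by group
          _ = _ := by rw [hmz, e, ← hmz]; group
      · refine Or.inr ?_
        calc m⁻¹ * x * m * f2 zL * (m⁻¹ * x * m)⁻¹ = m⁻¹ * (x * (m * f2 zL * m⁻¹) * x⁻¹) * m := by group
          _ = _ := by rw [hmz, e, ← hmz]; group)
    obtain ⟨a, ha⟩ := h
    exact ⟨a, by rw [hg0a, ha]; group⟩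
  -- the first common involution
  obtain ⟨hs31, hs32, hs33⟩ := s3_facts
  obtain ⟨x, hx⟩ : f2 s3 ∈ g0.range := hgnorm _ (Or.inl (by
    rw [← map_mul, hs32, map_mul, mul_inv_cancel_right]))
  obtain ⟨k1, -, hk1⟩ := third_gen x (hg0i (by rw [map_mul, hx, ← map_mul, hs31, map_one, map_one]))
    (hg0i (by rw [map_mul, map_mul, hx, hg0a zL, hmz, ← map_mul, hs32, map_mul]))
    (hg0i (by rw [map_mul, map_mul, map_inv, hx, hg0a wL, hmw, ← map_inv, ← map_mul, ← map_mul, hs33, map_inv, map_inv,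
      hg0a wL, hmw]))
  set g1 : L0 →* G := g0.comp (tw ((1 : Perm (Fin 3)), (c5 ^ k1)⁻¹)) with hg1
  have hg1z : g1 zL = f2 wL := by
    rw [hg1, MonoidHom.comp_apply, tw_fix (Prod.ext (by simp) (by simp [zL, el])), hg0a, hmz]
  have hg1w : g1 wL = f2 zL := by
    rw [hg1, MonoidHom.comp_apply, tw_fix (Prod.ext (by simp [wL, el]) ?_), hg0a, hmw]
    show (c5 ^ k1)⁻¹ * c5 * (c5 ^ k1)⁻¹⁻¹ = c5
    rw [inv_inv, mul_assoc, ← pow_succ', pow_succ, inv_mul_cancel_left]
  have hg1r : g1 rL = f2 s3 := by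
    rw [hg1, MonoidHom.comp_apply, ← hx]
    refine congrArg g0 (Subtype.ext ?_)
    rw [tw_coe, ← hk1, show ((1 : Perm (Fin 3)), (c5 ^ k1)⁻¹) = ((1 : Perm (Fin 3)), c5 ^ k1)⁻¹ by
      rw [Prod.inv_mk, inv_one]]
    group
  have hg1i : Function.Injective g1 := hg0i.comp (tw_inj _)
  have hg1rg : g1.range = g0.range := range_comp_tw _ _
  -- the second common involution
  obtain ⟨h61, h62, h63, h64⟩ := s6_facts
  obtain ⟨y6, hy6⟩ : f2 s6 ∈ g1.range := hg1rg ▸ hgnorm _ (Or.inr (by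
    rw [← map_inv f2 wL, ← map_inv, ← map_mul, ← map_mul, h62]))
  obtain ⟨k2, -, hk2⟩ := sixth_gen y6 (hg1i (by rw [map_mul, hy6, ← map_mul, h61, map_one, map_one]))
    (hg1i (by rw [map_mul, map_mul, map_inv, map_inv, hy6, hg1z, ← map_inv, ← map_mul, ← map_mul, h62, map_inv]))
    (hg1i (by rw [map_mul, map_mul, map_inv, map_inv, hy6, hg1w, ← map_inv, ← map_mul, ← map_mul, h63, map_inv]))
    (hg1i (by rw [map_mul, map_mul, hy6, hg1r, ← map_mul, h64, map_mul]))
  set g2 : L0 →* G := g1.comp (tw ((c3 ^ k2)⁻¹, (1 : Perm (Fin 5)))) with hg2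
  refine ⟨⟨f2, g2, hf2i, hg1i.comp (tw_inj _), hfnorm, fun a ha => ?_, ?_, ?_, ?_, ?_, ?_, h18, h27⟩⟩
  · rw [hg2, range_comp_tw, hg1rg]
    exact hgnorm a ha
  · rw [hg2, MonoidHom.comp_apply, tw_fix (Prod.ext (by simp [wL, el]) (by simp [wL, el])), hg1w]
  · rw [hg2, MonoidHom.comp_apply, tw_fix (Prod.ext ?_ (by simp [zL, el])), hg1z]
    show (c3 ^ k2)⁻¹ * c3 * (c3 ^ k2)⁻¹⁻¹ = c3
    rw [inv_inv, mul_assoc, ← pow_succ', pow_succ, inv_mul_cancel_left]
  · rw [hg2, MonoidHom.comp_apply, tw_fix (Prod.ext (by simp [rL, el]) (by simp [rL, el])), hg1r]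
  · rw [hg2, MonoidHom.comp_apply, ← hy6]
    refine congrArg g1 (Subtype.ext ?_)
    rw [tw_coe, ← hk2, show ((c3 ^ k2)⁻¹, (1 : Perm (Fin 5))) = (c3 ^ k2, (1 : Perm (Fin 5)))⁻¹ by
      rw [Prod.inv_mk, inv_one]]
    group
  · intro a haz haw
    have : a ∈ D := hC ▸ mem_centralizer_iff.2 fun d hd => by
      obtain ⟨t, ht, rfl⟩ := (hDeq.symm ▸ hd : d ∈ torusGrp.map f2)
      obtain ⟨p, -, rfl⟩ := Finset.mem_image.1 (mem_torusGrp.1 ht)
      rw [map_mul, map_pow, map_pow]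
      exact ((haz.pow_right _).mul_right (haw.pow_right _)).eq.symm
    obtain ⟨t, ht, e⟩ := (hDeq.symm ▸ this : a ∈ torusGrp.map f2)
    exact ⟨t, ht, e⟩

end Cfsg.Lib.AltEightLocal
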